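/-
The Levi subgroup Sz(q) × T₁ of the parabolic subgroup of ²F₄(q) fixing the highest root line.

* `LL`, `UP`, `UM`, and their normalisation;
* `coset_S7` : the torus of the Levi subgroup modulo the Suzuki subgroup is read off at the highest root;
* `cPt`, `sz_cover` : an element of order 5 whose class squared covers the Suzuki subgroup;
* `fpf_UP`, `fpf_UM` : elements of T₁ without fixed points on the radicals.
-/
import Cfsg.Agent.EqLemmas
import Cfsg.Agent.Lib.ReeLargeThompson.Column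
import Cfsg.Agent.Lib.Suzuki.CharCover

set_option autoImplicit false
set_option maxRecDepth 100000
set_option linter.unusedSectionVars false
set_option linter.style.haveILetI false

namespace Cfsg.Agent.ReeLargeThompson

open Cfsg.Lie Cfsg.Lie.ChevalleyDatum Matrix
open Cfsg.Agent.Chev Cfsg.Agent.ChevBN Cfsg.Agent.Twisted Cfsg.Agent.Twisted.F4
open Cfsg.Agent.ReeTwoInvol (mat ap okL eqv)

variable {K : Type*} [Field K] [Fintype K] [CharP K 2] {m : ℕ} (hK : Fintype.card K = 2 ^ (2 * m + 1))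

/-- The Levi subgroup. -/
noncomputable def LL (K : Type*) [Field K] [CharP K 2] (m : ℕ) : Subgroup (GL chevF4.Idx K) :=
  S7 K m ⊔ (σF K m).H1

/-- The unipotent radical. -/
noncomputable def UP : Subgroup (GL chevF4.Idx K) := (rgdF4' hK (m := m)).Udel (1 : Fin 2)

/-- The opposite radical. -/
noncomputable def UM : Subgroup (GL chevF4.Idx K) :=
  (UP hK (m := m)).comap (MulAut.conj (n0 hK (m := m))).toMonoidHom

include hK

theorem mem_UM {g : GL chevF4.Idx K} :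
    g ∈ UM hK (m := m) ↔ n0 hK (m := m) * g * (n0 hK (m := m))⁻¹ ∈ UP hK (m := m) := Iff.rfl

theorem n0_mem_G : n0 hK (m := m) ∈ (rgdF4' hK (m := m)).G :=
  (rgdF4' hK (m := m)).N_le_G (nd_mem_N hK d0)

theorem H1_le_G : (σF K m).H1 ≤ (rgdF4' hK (m := m)).G :=
  (rgdF4' hK (m := m)).H_le_B.trans (rgdF4' hK (m := m)).B_le_G

theorem X_le_G (j : Fin 16) : X K m j ≤ (rgdF4' hK (m := m)).G := by
  rw [← twisted_eq hK]; exact X_le_twisted hK j

theorem S7_le_G : S7 K m ≤ (rgdF4' hK (m := m)).G := sup_le (X_le_G hK 7) (X_le_G hK 15)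

theorem LL_le_G : LL K m ≤ (rgdF4' hK (m := m)).G := sup_le (S7_le_G hK) (H1_le_G hK)

theorem UP_le_G : UP hK (m := m) ≤ (rgdF4' hK (m := m)).G :=
  ((rgdF4' hK (m := m)).Udel_le_B 1).trans (rgdF4' hK (m := m)).B_le_G

theorem UM_le_G : UM hK (m := m) ≤ (rgdF4' hK (m := m)).G := fun g hg => by
  have h := mul_mem (mul_mem (inv_mem (n0_mem_G hK)) (UP_le_G hK ((mem_UM hK).1 hg))) (n0_mem_G hK)
  convert h using 1
  group

theorem Upos_le_pos : (rgdF4' hK (m := m)).Upos ≤ chevF4.posUnipotent K := by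
  rw [← pos_inf hK]; exact inf_le_left

theorem H1_conj_S7 {h y : GL chevF4.Idx K} (hh : h ∈ (σF K m).H1) (hy : y ∈ S7 K m) : h * y * h⁻¹ ∈ S7 K m := by
  have hle : S7 K m ≤ (S7 K m).comap (MulAut.conj h).toMonoidHom :=
    sup_le (fun z hz => Subgroup.mem_comap.2 (Subgroup.mem_sup_left (H1_conj_X hK h hh z hz)))
      (fun z hz => Subgroup.mem_comap.2 (Subgroup.mem_sup_right (H1_conj_X hK h hh z hz)))
  exact hle hy

theorem LL_decomp {l : GL chevF4.Idx K} (hl : l ∈ LL K m) : ∃ s ∈ S7 K m, ∃ h ∈ (σF K m).H1, l = s * h :=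
  RGD.exists_mul_of_mem_sup (fun _ ht _ hy => H1_conj_S7 hK ht hy) hl

theorem n1_form : ∃ h ∈ (σF K m).H1, ∃ w ∈ S7 K m, (RF K).nw (W 1) = h⁻¹ * w := by
  obtain ⟨a, ha, h, hh, c, hc, y, hy, e⟩ := exists_n_form hK (m := m) 1
  exact ⟨h, hh, a⁻¹ * y * c⁻¹, mul_mem (mul_mem (inv_mem (Subgroup.mem_sup_left ha)) (Subgroup.mem_sup_right hy))
    (inv_mem (Subgroup.mem_sup_left hc)), by rw [← e]; group⟩

theorem n1_mem_LL : (RF K).nw (W 1) ∈ LL K m := by
  obtain ⟨h, hh, w, hw, e⟩ := n1_form hK (m := m)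
  rw [e]
  exact mul_mem (Subgroup.mem_sup_right (inv_mem hh)) (Subgroup.mem_sup_left hw)

/-! ### The torus -/

theorem conj1 (a b : Kˣ) :
    (RF K).nw (W 1) * tH m (a, b) * ((RF K).nw (W 1))⁻¹ = tH m (a, a ^ (2 * 2 ^ m + 2) * b⁻¹) := by
  obtain ⟨y, hy⟩ := exists_conj hK 1 (a, b)
  rw [hy]
  congr 1
  have e1 := cH_conj hK 1 hy (r := 47) (by decide)
  have e2 := cH_conj hK 1 hy (r := 36) (by decide)
  rw [show wwN chevF4 (W 1) 47 = 47 by decide +kernel] at e1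
  rw [show wwN chevF4 (W 1) 36 = 40 by decide +kernel] at e2
  have hc : ∀ i < 4, chevF4.cartan i 47 = ([0, 0, 0, 1] : List ℤ).getD i 0 ∧
      chevF4.cartan i 40 = ([-1, 1, 0, 0] : List ℤ).getD i 0 ∧
      chevF4.cartan i 36 = ([1, -1, 0, 1] : List ℤ).getD i 0 := by decide +kernel
  obtain ⟨a0, b0, c0⟩ := hc 0 (by norm_num)
  obtain ⟨a1, b1, c1⟩ := hc 1 (by norm_num)
  obtain ⟨a2, b2, c2⟩ := hc 2 (by norm_num)
  obtain ⟨a3, b3, c3⟩ := hc 3 (by norm_num)
  refine eq_of_cH hK ?_ ?_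
  · rw [e1, cH_eq, cH_eq, a0, a1, a2, a3]
    simp
  · rw [e2, cH_eq, cH_eq, b0, b1, b2, b3, c0, c1, c2, c3]
    have hp : (a ^ (2 * 2 ^ m + 2)) ^ 2 ^ m = a ^ 2 ^ m * a ^ 2 ^ m * a := by
      rw [← pow_mul, show (2 * 2 ^ m + 2) * 2 ^ m = 2 ^ m * (2 * 2 ^ m) + 2 ^ m + 2 ^ m by ring, pow_add, pow_add,
        pow_mul, pow_e_e' hK]
      ac_rfl
    have hz : ∀ u : Kˣ, u ^ ((2 : ℤ) ^ m) = u ^ (2 ^ m) := fun u => by simp [← zpow_natCast]
    simp [_root_.zpow_add, hz]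
    rw [mul_pow, inv_pow, hp, eq_inv_mul_iff_mul_eq]
    ac_rfl

theorem coset_S7 {x z : Kˣ × Kˣ} (h : x.1 = z.1) : tH m x * (tH m z)⁻¹ ∈ S7 K m := by
  set b := x.2 * z.2⁻¹ with hb
  have e : tH m x = tH m (1, b) * tH m z := by
    rw [← tH_mul hK]
    congr 1
    refine Prod.ext ?_ ?_ <;> simp [h, hb]
  rw [e, mul_inv_cancel_right]
  obtain ⟨s, hs⟩ : ∃ s : Kˣ, s ^ (2 * 2 ^ m + 2) = b := by
    refine Finite.surjective_of_injective (f := fun s : Kˣ => s ^ (2 * 2 ^ m + 2)) (fun s t hst => ?_) b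
    have h1 : (s * t⁻¹) ^ (2 * 2 ^ m + 2) = 1 := by
      rw [mul_pow, inv_pow]; exact mul_inv_eq_one.2 hst
    have h2 : (s * t⁻¹) ^ (2 ^ m + 1) = 1 := eq_one_of_sq' hK (by
      rw [show ((2 : ℤ)) = ((2 : ℕ) : ℤ) from rfl, zpow_natCast, ← pow_mul]
      rw [show 2 * 2 ^ m + 2 = (2 ^ m + 1) * 2 by ring] at h1
      exact h1)
    have h3 := congrArg (fun u : Kˣ => u ^ (2 * 2 ^ m - 2)) h2
    simp only [one_pow, ← pow_mul] at h3
    have h1e : 1 ≤ 2 ^ m := Nat.one_le_two_pow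
    have h4 : (s * t⁻¹) ^ (2 ^ m * (2 * 2 ^ m)) = (s * t⁻¹) ^ 2 := by
      rw [show 2 ^ m * (2 * 2 ^ m) = (2 ^ m + 1) * (2 * 2 ^ m - 2) + 2 by
        rw [Nat.mul_sub, add_one_mul]
        have : 2 * 2 ^ m ≤ 2 ^ m * (2 * 2 ^ m) := Nat.le_mul_of_pos_left _ h1e
        omega, pow_add, h3, one_mul]
    rw [pow_mul, pow_e_e' hK, sq] at h4
    exact mul_inv_eq_one.1 (mul_left_cancel (a := s * t⁻¹) (by rw [mul_one]; exact h4.symm))
  obtain ⟨h, hh, w, hw, en⟩ := n1_form hK (m := m)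
  have hT : tH m (s, 1) ∈ (σF K m).H1 := (mem_H1_iff hK).2 ⟨_, rfl⟩
  have hn := conj1 hK (m := m) s 1
  rw [inv_one, mul_one, hs] at hn
  have e1 : tH m (1, b) = (RF K).nw (W 1) * tH m (s, 1) * ((RF K).nw (W 1))⁻¹ * (tH m (s, 1))⁻¹ := by
    rw [hn, eq_mul_inv_iff_mul_eq, ← tH_mul hK, Prod.mk_mul_mk, one_mul, mul_one]
  have hc : Commute h (tH m (s, 1)) := H1_comm hK hh.1 hT.1
  rw [e1, en, show h⁻¹ * w * tH m (s, 1) * (h⁻¹ * w)⁻¹ * (tH m (s, 1))⁻¹ =
    h⁻¹ * w * tH m (s, 1) * w⁻¹ * (h * (tH m (s, 1))⁻¹) by group, hc.inv_right.eq,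
    show h⁻¹ * w * tH m (s, 1) * w⁻¹ * ((tH m (s, 1))⁻¹ * h) =
      h⁻¹ * (w * (tH m (s, 1) * w⁻¹ * (tH m (s, 1))⁻¹)) * h⁻¹⁻¹ by group]
  exact H1_conj_S7 hK (inv_mem hh) (mul_mem hw (H1_conj_S7 hK hT (inv_mem hw)))

theorem tH_commute {x : Kˣ × Kˣ} (h7 : ∀ r ∈ cls 7, cH m x r = 1) (h15 : ∀ r ∈ cls 15, cH m x r = 1)
    {l : GL chevF4.Idx K} (hl : l ∈ LL K m) : Commute (tH m x) l := by
  have hx : ∀ r < chevF4.nroots, cH m x r = 1 → ∀ u, Commute (tH m x) (xF K r u) := fun r hr h1 u => by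
    have := tH_conj_xF hK x hr u
    rw [h1, Units.val_one, one_mul] at this
    exact eq_mul_inv_iff_mul_eq.1 this.symm |>.symm
  have hle : LL K m ≤ Subgroup.centralizer {tH m x} := by
    refine sup_le (sup_le ?_ ?_) fun k hk => Subgroup.mem_centralizer_singleton_iff.2
      (H1_comm hK hk.1 ((mem_H1_iff hK).2 ⟨x, rfl⟩).1)
    · intro g hg
      obtain ⟨t, u, rfl⟩ := (mem_X7_iff hK).1 hg
      exact Subgroup.mem_centralizer_singleton_iff.2 ((((hx 27 (by decide) (h7 27 (by decide)) _).mul_right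
        (hx 25 (by decide) (h7 25 (by decide)) _)).mul_right (hx 28 (by decide) (h7 28 (by decide)) _)).mul_right
        (hx 30 (by decide) (h7 30 (by decide)) _)).eq.symm
    · intro g hg
      obtain ⟨t, u, rfl⟩ := (mem_X15_iff hK).1 hg
      exact Subgroup.mem_centralizer_singleton_iff.2 ((((hx 20 (by decide) (h15 20 (by decide)) _).mul_right
        (hx 22 (by decide) (h15 22 (by decide)) _)).mul_right (hx 19 (by decide) (h15 19 (by decide)) _)).mul_right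
        (hx 17 (by decide) (h15 17 (by decide)) _)).eq.symm
  exact (Subgroup.mem_centralizer_singleton_iff.1 (hle hl)).symm

/-! ### Normalisation -/

theorem LL_norm_UP {l u : GL chevF4.Idx K} (hl : l ∈ LL K m) (hu : u ∈ UP hK (m := m)) :
    l * u * l⁻¹ ∈ UP hK (m := m) := by
  set R := rgdF4' hK (m := m)
  have h7 : X K m 7 ≤ Subgroup.normalizer (R.Udel 1 : Set (GL chevF4.Idx K)) := fun g hg => by
    refine Subgroup.mem_normalizer_iff.2 fun y => ⟨R.U_conj_Udel 1 hg y, fun hy => ?_⟩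
    have := R.U_conj_Udel 1 (inv_mem hg) _ hy
    simpa [mul_assoc] using this
  have hH : (σF K m).H1 ≤ Subgroup.normalizer (R.Udel 1 : Set (GL chevF4.Idx K)) := fun g hg => by
    refine Subgroup.mem_normalizer_iff.2 fun y => ⟨R.H_conj_span _ hg y, fun hy => ?_⟩
    have := R.H_conj_span _ (inv_mem hg) _ hy
    simp only [mul_assoc, inv_mul_cancel_left, inv_inv, inv_mul_cancel, mul_one] at this
    exact this
  have hn : (RF K).nw (W 1) ∈ Subgroup.normalizer (R.Udel 1 : Set (GL chevF4.Idx K)) := by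
    refine Subgroup.mem_normalizer_iff.2 fun y => ⟨R.n_conj_Udel 1 y, fun hy => ?_⟩
    have := R.Udel_conj_n' 1 hy
    rw [show R.n 1 = (RF K).nw (W 1) from rfl] at this
    simpa [mul_assoc] using this
  have h15 : X K m 15 ≤ Subgroup.normalizer (R.Udel 1 : Set (GL chevF4.Idx K)) := fun g hg => by
    have h := nW_conj_X (K := K) (m := m) 1 15 hg
    rw [show wcl 1 (15 : Fin 16) = 7 by decide] at h
    rw [show g = ((RF K).nw (W 1))⁻¹ * ((RF K).nw (W 1) * g * ((RF K).nw (W 1))⁻¹) * (RF K).nw (W 1) by group]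
    exact mul_mem (mul_mem (inv_mem hn) (h7 h)) hn
  exact (Subgroup.mem_normalizer_iff.1 (sup_le (sup_le h7 h15) hH hl) u).1 hu

theorem n0_conj_LL {l : GL chevF4.Idx K} (hl : l ∈ LL K m) :
    n0 hK (m := m) * l * (n0 hK (m := m))⁻¹ ∈ LL K m := by
  set R := rgdF4' hK (m := m)
  have hX : ∀ a b : Fin 16, (wd d0).foldr wcl a = b → ∀ g ∈ X K m a,
      n0 hK (m := m) * g * (n0 hK (m := m))⁻¹ ∈ X K m b := fun a b e g hg => by
    have := R.conj_U_mem (R.map_conj_U (wd d0) a) hg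
    rw [show R.ww (wd d0) a = (wd d0).foldr wcl a from rfl, e] at this
    exact this
  have hle : LL K m ≤ (LL K m).comap (MulAut.conj (n0 hK (m := m))).toMonoidHom :=
    sup_le (sup_le
      (fun g hg => Subgroup.mem_comap.2 (Subgroup.mem_sup_left (Subgroup.mem_sup_right
        (hX 7 15 (by decide +kernel) g hg))))
      (fun g hg => Subgroup.mem_comap.2 (Subgroup.mem_sup_left (Subgroup.mem_sup_left
        (hX 15 7 (by decide +kernel) g hg)))))
      (fun g hg => Subgroup.mem_comap.2 (Subgroup.mem_sup_right (R.conj_H_mem (nd_mem_N hK d0) hg)))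
  exact hle hl

theorem LL_norm_UM {l u : GL chevF4.Idx K} (hl : l ∈ LL K m) (hu : u ∈ UM hK (m := m)) :
    l * u * l⁻¹ ∈ UM hK (m := m) := by
  rw [mem_UM] at hu ⊢
  have := LL_norm_UP hK (n0_conj_LL hK hl) hu
  convert this using 1
  group

/-! ### The element of order five -/

/-- A product of root elements with parameter one. -/
noncomputable def wF (L : List ℕ) : GL chevF4.Idx K := (L.map fun r => xF K r 1).prod

omit hK in
theorem wF_eq {L L' : List ℕ} (h : (okL L && okL L' && eqv L L') = true) : (wF L : GL chevF4.Idx K) = wF L' := by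
  have e := ReeTwoInvol.eqv_sound h
  simp only [Bool.and_eq_true, ReeTwoInvol.okL_iff] at h
  apply Units.ext
  rw [wF, wF, ← mat_cast _ h.1.1, ← mat_cast _ h.1.2, e]

omit hK in
theorem wF_append (L L' : List ℕ) : (wF (L ++ L') : GL chevF4.Idx K) = wF L * wF L' := by simp [wF]

/-- The element of order five. -/
noncomputable def cPt : GL chevF4.Idx K := wF [28, 30, 19, 17]

/-- An involution inverting it. -/
noncomputable def iPt : GL chevF4.Idx K := wF [28, 30]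

theorem iPt_mem : (iPt : GL chevF4.Idx K) ∈ S7 K m := by
  refine Subgroup.mem_sup_left ((mem_X7_iff hK).2 ⟨0, 1, ?_⟩)
  simp [iPt, wF, xF_zero']

theorem cPt_mem : (cPt : GL chevF4.Idx K) ∈ S7 K m := by
  rw [cPt, show [28, 30, 19, 17] = [28, 30] ++ [19, 17] from rfl, wF_append]
  refine mul_mem (iPt_mem hK) (Subgroup.mem_sup_right ((mem_X15_iff hK).2 ⟨0, 1, ?_⟩))
  simp [wF, xF_zero']

omit hK in
theorem cPt_pow : (cPt : GL chevF4.Idx K) ^ 5 = 1 := by
  have h := wF_eq (K := K) (L := [28, 30, 19, 17] ++ [28, 30, 19, 17] ++ [28, 30, 19, 17] ++ [28, 30, 19, 17] ++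
    [28, 30, 19, 17]) (L' := []) (by decide +kernel)
  simp only [wF_append] at h
  rw [show wF [] = (1 : GL chevF4.Idx K) from rfl] at h
  rw [cPt, pow_succ, pow_succ, pow_succ, pow_succ, pow_one]
  exact h

omit hK in
theorem cPt_inv : (iPt : GL chevF4.Idx K) * cPt * iPt⁻¹ = cPt⁻¹ := by
  have h1 := wF_eq (K := K) (L := [28, 30] ++ [28, 30]) (L' := []) (by decide +kernel)
  have h2 := wF_eq (K := K) (L := [28, 30] ++ [28, 30, 19, 17] ++ [28, 30] ++ [28, 30, 19, 17]) (L' := [])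
    (by decide +kernel)
  simp only [wF_append, show wF [] = (1 : GL chevF4.Idx K) from rfl] at h1 h2
  rw [show (iPt : GL chevF4.Idx K)⁻¹ = iPt from inv_eq_of_mul_eq_one_right h1]
  exact eq_inv_of_mul_eq_one_left h2

omit hK in
theorem cPt_ne_one : (cPt : GL chevF4.Idx K) ≠ 1 := by
  intro h
  have hL : ∀ r ∈ [28, 30, 19, 17], r < 48 := by decide
  have e : mat [28, 30, 19, 17] = 1 := by
    apply Units.ext
    ext a b
    refine (ZMod.castHom dvd_rfl K).injective ?_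
    have := congrFun (congrFun (mat_cast (K := K) _ hL) a) b
    rw [Matrix.map_apply] at this
    rw [this, show ((List.map (fun r => xF K r 1) [28, 30, 19, 17]).prod : GL chevF4.Idx K) = 1 from h,
      Units.val_one, Units.val_one, Matrix.one_apply, Matrix.one_apply]
    split <;> simp
  exact ReeTwoInvol.ne_one_of_ap hL (v := 2 ^ (4 + 11)) (by decide +kernel) e

omit hK in
theorem cPt_order : orderOf (cPt : GL chevF4.Idx K) = 5 :=
  orderOf_eq_prime (hp := ⟨by norm_num⟩) cPt_pow cPt_ne_one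

theorem sz_cover (hm : 1 ≤ m) {s : GL chevF4.Idx K} (hs : s ∈ S7 K m) :
    ∃ u ∈ S7 K m, ∃ v ∈ S7 K m, s = u * cPt * u⁻¹ * (v * cPt * v⁻¹) := by
  by_cases h1 : s = 1
  · exact ⟨1, one_mem _, iPt, iPt_mem hK, by rw [h1, cPt_inv, one_mul, inv_one, mul_one, mul_inv_cancel]⟩
  classical
  obtain ⟨ψ, hψi, hψs, -⟩ := exists_szHom hK hm
  haveI : Finite (Cfsg.Sz K m) := Finite.of_surjective ψ hψs
  haveI := Fintype.ofFinite (Cfsg.Sz K m)
  haveI := Fintype.ofFinite (Cfsg.IrrCharacter (Cfsg.Sz K m))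
  obtain ⟨u, v, e⟩ := Suzuki.CharTable.cover hm hK (x := ψ ⟨cPt, cPt_mem hK⟩) (g := ψ ⟨s, hs⟩)
    (by rw [orderOf_injective ψ hψi, ← Subgroup.orderOf_coe, cPt_order]; norm_num)
    (fun h => h1 (congrArg Subtype.val (hψi (h.trans (map_one ψ).symm))))
  obtain ⟨u, rfl⟩ := hψs u
  obtain ⟨v, rfl⟩ := hψs v
  simp only [← map_inv, ← map_mul] at e
  exact ⟨u, u.2, v, v.2, congrArg Subtype.val (hψi e)⟩

/-! ### Freeness -/

theorem fpf_seg {x : Kˣ × Kˣ} (hx : ∀ j < 7, ∀ r ∈ cls j, cH m x r ≠ 1) :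
    ∀ (k a : ℕ), a + k = 7 → ∀ g ∈ segX K m a 7, Commute (tH m x) g → g = 1 := by
  intro k
  induction k with
  | zero =>
    intro a ha g hg _
    obtain rfl : a = 7 := by omega
    have := (Subgroup.mem_inf.1 hg).1
    rw [seg_self] at this
    change g ∈ sp DataF4.good rootsF4 K [] at this
    rwa [sp_nil, Subgroup.mem_bot] at this
  | succ k ih =>
    intro a ha g hg hc
    obtain ⟨y, hy, w, hw, rfl⟩ := segX_split hK (by norm_num : 7 ≤ 8) (by omega : a < 7) hg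
    set h := tH m x
    have hh : h ∈ (σF K m).H1 := (mem_H1_iff hK).2 ⟨x, rfl⟩
    have hy' : h * y * h⁻¹ ∈ X K m ⟨a, by omega⟩ := H1_conj_X hK h hh y hy
    have hw' : h * w * h⁻¹ ∈ segX K m (a + 1) 7 :=
      Subgroup.mem_inf.2 ⟨(RF K).H_conj_span _ hh.1 w (Subgroup.mem_inf.1 hw).1,
        mul_mem (mul_mem hh.2 (Subgroup.mem_inf.1 hw).2) (inv_mem hh.2)⟩
    have e : (h * y * h⁻¹) * (h * w * h⁻¹) = y * w := by
      rw [show h * y * h⁻¹ * (h * w * h⁻¹) = h * (y * w) * h⁻¹ by group, hc.eq, mul_inv_cancel_right]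
    have e2 : y⁻¹ * (h * y * h⁻¹) = w * (h * w * h⁻¹)⁻¹ := by
      rw [eq_mul_inv_iff_mul_eq, mul_assoc, e, inv_mul_cancel_left]
    have hfix : y⁻¹ * (h * y * h⁻¹) = 1 := segX_disj hK (by norm_num : 7 ≤ 8) (by omega : a < 7)
      (mul_mem (inv_mem hy) hy') (e2 ▸ mul_mem hw (inv_mem hw'))
    obtain rfl : y = 1 := fix_eq_one hK ⟨a, by omega⟩ x (hx a (by omega)) y hy (inv_mul_eq_one.1 hfix).symm
    rw [one_mul] at hc ⊢
    exact ih (a + 1) (by omega) w hw hc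

theorem UP_le_segX : UP hK (m := m) ≤ segX K m 0 7 := by
  refine iSup₂_le fun j hj => X_le_segX (Nat.zero_le _) ?_
  obtain ⟨h1, h2⟩ : j.val < 8 ∧ j ≠ sc 1 := hj
  have : j.val ≠ 7 := fun e => h2 (Fin.ext e)
  omega

theorem fpf_UP {x : Kˣ × Kˣ} (hx : ∀ j < 7, ∀ r ∈ cls j, cH m x r ≠ 1) {g : GL chevF4.Idx K}
    (hg : g ∈ UP hK (m := m)) (hc : Commute (tH m x) g) : g = 1 :=
  fpf_seg hK hx 7 0 rfl g (UP_le_segX hK hg) hc

theorem fpf_UM {x : Kˣ × Kˣ} (hx : ∀ j < 7, ∀ r ∈ cls j, cH m x r ≠ 1) {g : GL chevF4.Idx K}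
    (hg : g ∈ UM hK (m := m)) (hc : Commute (tH m x) g) : g = 1 := by
  have hh : tH m x ∈ (σF K m).H1 := (mem_H1_iff hK).2 ⟨x, rfl⟩
  have e : n0 hK (m := m) * tH m x * (n0 hK (m := m))⁻¹ = (tH m x)⁻¹ := by
    have h := inverts hK hh
    rw [nw'_eq_nd, show (w0l.map Twisted.F4.gen).prod = d0 by decide +kernel] at h
    exact h
  have hc' : Commute (tH m x)⁻¹ (n0 hK (m := m) * g * (n0 hK (m := m))⁻¹) := e ▸ (SemiconjBy.map hc
    (MulAut.conj (n0 hK (m := m))).toMonoidHom : Commute _ _)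
  have h1 := fpf_UP hK hx ((mem_UM hK).1 hg) hc'.inv_left.symm.symm
  exact conj_eq_one_iff.1 h1

end Cfsg.Agent.ReeLargeThompson
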