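/-
The big cell of the parabolic subgroup of ²F₄(q) fixing the highest root line.

* `cell` : an element with nonzero coefficient at the highest root vector lies in `UM · L · UP`;
* `exists_conj_coeff` : a nontrivial element has a conjugate with any prescribed coefficient.
-/
import Cfsg.Agent.EqLemmas
import Cfsg.Agent.Lib.ReeLargeThompson.Levi

set_option autoImplicit false
set_option maxRecDepth 100000
set_option linter.unusedSectionVars false

namespace Cfsg.Agent.ReeLargeThompson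

open Cfsg.Lie Cfsg.Lie.ChevalleyDatum Matrix
open Cfsg.Agent.Chev Cfsg.Agent.ChevBN Cfsg.Agent.Twisted Cfsg.Agent.Twisted.F4

variable {K : Type*} [Field K] [Fintype K] [CharP K 2] {m : ℕ} (hK : Fintype.card K = 2 ^ (2 * m + 1))

local notation "Mx" g => (Units.val g : Matrix chevF4.Idx chevF4.Idx K)
set_option quotPrecheck false in
local notation "RG" => (rgdF4' hK (m := m))

include hK

theorem Upos_le_G : (RG).Upos ≤ (RG).G := (RG).Upos_le_B.trans (RG).B_le_G

theorem top_cH (x : Kˣ × Kˣ) : cH m x 47 = x.1 := by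
  have hc : ∀ i < 4, chevF4.cartan i 47 = ([0, 0, 0, 1] : List ℤ).getD i 0 := by decide +kernel
  rw [cH_eq, hc 0 (by norm_num), hc 1 (by norm_num), hc 2 (by norm_num), hc 3 (by norm_num)]
  simp

theorem tH_diag (x : Kˣ × Kˣ) : (Mx tH m x) =
    Matrix.diagonal (Sum.elim (fun _ => (1 : K)) fun s : Fin chevF4.nroots => (cH m x s : K)) := rfl

theorem tH_col (x : Kˣ × Kˣ) {r : ℕ} (hr : r < 48) (a : chevF4.Idx) :
    (Mx tH m x) a (ix r hr) = if a = ix r hr then (cH m x r : K) else 0 := by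
  rw [tH_diag hK, Matrix.diagonal_apply]
  split
  · next h => subst h; rfl
  · rfl

/-- The stabiliser of the highest root vector. -/
theorem S7_col {s : GL chevF4.Idx K} (hs : s ∈ S7 K m) (a : chevF4.Idx) :
    (Mx s) a top = if a = top then 1 else 0 := by
  let P : Subgroup (GL chevF4.Idx K) :=
    { carrier := {g | (Mx g) *ᵥ (Pi.single top (1 : K)) = Pi.single top 1}
      one_mem' := by
        show (Mx (1 : GL chevF4.Idx K)) *ᵥ _ = _
        rw [Units.val_one, Matrix.one_mulVec]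
      mul_mem' := fun {g h} hg hh => by
        show (Mx (g * h)) *ᵥ _ = _
        rw [Units.val_mul, ← Matrix.mulVec_mulVec, hh, hg]
      inv_mem' := fun {g} hg => by
        show (Mx g⁻¹) *ᵥ _ = _
        conv_lhs => rw [← hg, Matrix.mulVec_mulVec, Units.inv_mul, Matrix.one_mulVec] }
  have h7 : X K m 7 ≤ P := fun g hg => by
    show (Mx g) *ᵥ _ = _
    rw [Matrix.mulVec_single_one]
    funext b
    rw [Matrix.col_apply, pos_col (Upos_le_pos hK ((RG).U_le_Upos (r := (7 : Fin 16))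
      (show (7 : Fin 16).val < 8 by decide) hg)), Pi.single_apply]
  have h15 : X K m 15 ≤ P := fun g hg => by
    set n := (RF K).nw (W 1)
    have h := nW_conj_X (K := K) (m := m) 1 15 hg
    rw [show wcl 1 (15 : Fin 16) = 7 by decide] at h
    obtain ⟨c, hc', hc, hcol⟩ := nw_root_col (K := K) (W 1) (s := 47) (by norm_num)
    have e : ∀ b, (Mx n) b top = if b = top then c else 0 := fun b => by
      rw [show (Mx n) b top = _ from hcol b]
      simp only [top, show wwN chevF4 (W 1) 47 = 47 by decide +kernel]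
      rfl
    have ev : (Mx n) *ᵥ Pi.single top (1 : K) = c • Pi.single top 1 := by
      funext b
      rw [Matrix.mulVec_single_one, Matrix.col_apply, e, Pi.smul_apply, Pi.single_apply]
      simp
    have hg' : (Mx (n * g * n⁻¹)) *ᵥ Pi.single top (1 : K) = Pi.single top 1 := h7 h
    have h2 := congrArg (fun v => (Mx n⁻¹) *ᵥ v) (congrArg (fun v => c • v) hg')
    simp only at h2
    rw [← Matrix.mulVec_smul, ← ev, Matrix.mulVec_mulVec, Matrix.mulVec_mulVec, Matrix.mulVec_mulVec] at h2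
    simp only [← Units.val_mul] at h2
    rw [show n⁻¹ * (n * g * n⁻¹) * n = g by group, inv_mul_cancel, Units.val_one, Matrix.one_mulVec] at h2
    exact h2
  have := (sup_le h7 h15 : S7 K m ≤ P) hs
  have h := congrFun this a
  rwa [Matrix.mulVec_single_one, Matrix.col_apply, Pi.single_apply] at h

theorem exists_bruhat {g : GL chevF4.Idx K} (hg : g ∈ (RG).G) :
    ∃ v ∈ (RG).Upos, ∃ h ∈ (σF K m).H1, ∃ d : DihedralGroup 8, ∃ u ∈ (RG).Upos,
      g = v * h * nd hK (m := m) d * u ∧ ∃ (c : K) (hγ : gam d < 48), c ≠ 0 ∧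
        ∀ a, (Mx (h * nd hK (m := m) d * u)) a top = if a = ix (gam d) hγ then c else 0 := by
  obtain ⟨b, hb, l, u, hu, rfl⟩ := (RG).exists_normalForm hg
  obtain ⟨v, hv, h, hh, rfl⟩ := (RG).exists_B hb
  have hu' := (RG).Uminus_le_Upos l hu
  obtain ⟨z, hz1, hz, hzc⟩ := nd_col hK (m := m) ((l.map Twisted.F4.gen).prod) (s := 47) (by norm_num)
  obtain ⟨x, rfl⟩ := (mem_H1_iff hK).1 hh
  refine ⟨v, hv, _, hh, (l.map Twisted.F4.gen).prod, u, hu', by rw [nw'_eq_nd hK], (cH m x (gam ((l.map Twisted.F4.gen).prod)) : K) * z, hz1,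
    mul_ne_zero (Units.ne_zero _) hz, fun a => ?_⟩
  rw [col_mul (b := top) (fun a => pos_col (Upos_le_pos hK hu') a), mul_one,
    show top = ix 47 (by norm_num) from rfl, col_mul hzc, tH_col hK x hz1]
  split
  · next e => exact (if_pos e).symm
  · next e => exact (zero_mul z).trans (if_neg e).symm

theorem n0_pos_row {v : GL chevF4.Idx K} (hv : v ∈ (RG).Upos) (a : chevF4.Idx) :
    (Mx (n0 hK (m := m) * v)) top a = if a = bot then (Mx n0 hK (m := m)) top bot else 0 := by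
  rw [Units.val_mul, Matrix.mul_apply,
    Finset.sum_eq_single bot (fun b _ hb => by rw [n0_row hK hb, zero_mul]) (fun h => absurd (Finset.mem_univ _) h)]
  split
  · next h => subst h; rw [(uTri_pos DataF4.good rootsF4 (Upos_le_pos hK hv)).2, mul_one]
  · next h => rw [pos_row (Upos_le_pos hK hv) h, mul_zero]

theorem row_UM {v : GL chevF4.Idx K} (hv : v ∈ UM hK (m := m)) (a : chevF4.Idx) :
    (Mx v) top a = if a = top then 1 else 0 := by
  set n := n0 hK (m := m) with hn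
  have hy : n * v * n⁻¹ ∈ (RG).Upos := (RG).Udel_le_Upos _ ((mem_UM hK).1 hv)
  have hnn : n * n = 1 := n0_mul_self hK
  set y := n * v * n⁻¹ with hy'
  have e : v = n * y * n := by
    rw [hy', inv_eq_of_mul_eq_one_right hnn, show n * (n * v * n) * n = n * n * v * (n * n) by group, hnn, one_mul,
      mul_one]
  have h1 : (Mx v) top a = ((Mx n) * (Mx n) : Matrix chevF4.Idx chevF4.Idx K) top a := by
    rw [e, Units.val_mul (n * y), Matrix.mul_apply, Matrix.mul_apply]
    refine Finset.sum_congr rfl fun b _ => ?_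
    rw [hn, n0_pos_row hK hy]
    split
    · next h => subst h; rfl
    · next h => rw [n0_row hK h]
  rw [h1, ← Units.val_mul, hnn, Units.val_one, Matrix.one_apply]
  simp only [eq_comm]

/-- An element with nonzero coefficient at the highest root vector lies in the big cell. -/
theorem cell {g : GL chevF4.Idx K} (hg : g ∈ (RG).G) (hf : (Mx g) top top ≠ 0) :
    ∃ v ∈ UM hK (m := m), ∃ s ∈ S7 K m, ∃ x : Kˣ × Kˣ, ∃ u ∈ UP hK (m := m),
      g = v * (s * tH m x) * u ∧ (x.1 : K) = (Mx g) top top := by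
  set n := n0 hK (m := m) with hn
  have hnn : n * n = 1 := n0_mul_self hK
  have hni : n⁻¹ = n := n0_inv hK
  obtain ⟨v, hv, h, hh, d, u, hu, e, c, hγ, hc, hcol⟩ := exists_bruhat hK (mul_mem (n0_mem_G hK) hg)
  have e0 : g = n * (v * h * nd hK (m := m) d * u) := by rw [← e, ← mul_assoc, ← hn, hnn, one_mul]
  have hγ0 : gam d = 0 := by
    by_contra hne
    apply hf
    rw [e0, show n * (v * h * nd hK (m := m) d * u) = n * v * (h * nd hK (m := m) d * u) by group, col_mul hcol,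
      hn, n0_pos_row hK hv, if_neg (fun e : ix (gam d) hγ = bot => hne (ix_inj.1 e)), zero_mul]
  obtain ⟨k, hk, a, ha, rfl⟩ := (RG).exists_Upos (i := (1 : Fin 2)) hv
  obtain ⟨k', hk', a', ha', rfl⟩ := (RG).exists_Upos (i := (1 : Fin 2)) hu
  have haL : ∀ {y}, y ∈ X K m 7 → y ∈ LL K m := fun hy => Subgroup.mem_sup_left (Subgroup.mem_sup_left hy)
  obtain ⟨B, hB, eB⟩ : ∃ B ∈ LL K m, nd hK (m := m) d = B * n := by
    rcases gam_bot d hγ0 with rfl | rfl
    · exact ⟨1, one_mem _, by rw [one_mul, hn, n0]⟩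
    · refine ⟨n * nd hK (m := m) (Twisted.F4.gen 1) * n⁻¹, n0_conj_LL hK ?_, ?_⟩
      · rw [show nd hK (m := m) (Twisted.F4.gen 1) = (RF K).nw (W 1) by
          rw [show Twisted.F4.gen 1 = ([1].map Twisted.F4.gen).prod by simp, ← nw'_eq_nd hK]
          simp [rgdF4']]
        exact n1_mem_LL hK
      · rw [inv_mul_cancel_right, hn, n0, nd_mul]
  set l := n * (a * h * B) * n⁻¹ * a' with hl
  have hlL : l ∈ LL K m := mul_mem (n0_conj_LL hK (mul_mem (mul_mem (haL ha) (Subgroup.mem_sup_right hh)) hB))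
    (haL ha')
  have hu2 : a'⁻¹ * k' * a'⁻¹⁻¹ ∈ UP hK (m := m) := (RG).U_conj_Udel _ (inv_mem ha') _ hk'
  have hv2 : n * k * n⁻¹ ∈ UM hK (m := m) := by
    rw [mem_UM, ← hn, hni, show n * (n * k * n) * n = n * n * k * (n * n) by group, hnn, one_mul, mul_one]
    exact hk
  have eg : g = n * k * n⁻¹ * l * (a'⁻¹ * k' * a'⁻¹⁻¹) := by
    rw [e0, eB, hl, hni]
    simp only [mul_assoc, inv_inv, mul_inv_cancel_left]
    rw [← mul_assoc n n (a * _), hnn, one_mul]
  obtain ⟨s, hs, t, ht, es⟩ := LL_decomp hK hlL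
  obtain ⟨x, rfl⟩ := (mem_H1_iff hK).1 ht
  refine ⟨_, hv2, s, hs, x, _, hu2, by rw [eg, es], ?_⟩
  rw [eg, es, col_mul (fun a => pos_col (Upos_le_pos hK ((RG).Udel_le_Upos _ hu2)) a), mul_one,
    col_mul (b := top) (c := (x.1 : K)) (fun b => ?_), row_UM hK hv2, if_pos rfl, one_mul]
  rw [col_mul (b := top) (c := (x.1 : K)) (fun b => by
    rw [show top = ix 47 (by norm_num) from rfl, tH_col hK, top_cH hK]), S7_col hK hs]
  split <;> simp

/-! ### A conjugate with prescribed coefficient -/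

theorem exists_scale {γ : ℕ} (hγ : γ ∈ [0, 1, 5, 17, 30, 42, 46]) (b : Kˣ) :
    ∃ y : Kˣ × Kˣ, cH m y 47 * (cH m y γ)⁻¹ = b := by
  have h0 : ∀ i < 4, chevF4.cartan i 0 = ([0, 0, 0, -1] : List ℤ).getD i 0 := by decide +kernel
  have h1 : ∀ γ ∈ [1, 5, 17, 30, 42, 46], (chevF4.cartan 1 γ, chevF4.cartan 2 γ) ∈
      [((0 : ℤ), (1 : ℤ)), (0, -1), (2, 0), (-2, 0)] := by decide +kernel
  by_cases h : γ = 0
  · subst h
    obtain ⟨t, ht⟩ := Finite.surjective_of_injective (f := fun t : Kˣ => t ^ (2 : ℤ)) (fun s t hst => by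
      have := eq_one_of_sq' hK (x := s * t⁻¹) (by rw [mul_zpow, _root_.inv_zpow]; exact mul_inv_eq_one.2 hst)
      exact mul_inv_eq_one.1 this) b
    refine ⟨(t, 1), ?_⟩
    rw [top_cH hK, cH_eq, h0 0 (by norm_num), h0 1 (by norm_num), h0 2 (by norm_num), h0 3 (by norm_num)]
    simpa [zpow_two, sq] using ht
  · have hγ' : γ ∈ [1, 5, 17, 30, 42, 46] := List.mem_of_ne_of_mem h hγ
    set ex := chevF4.cartan 1 γ * 2 ^ m + chevF4.cartan 2 γ with hex
    have hkey : ∀ s : Kˣ, s ^ ex = 1 → s = 1 := by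
      intro s hs
      have he : ∀ s : Kˣ, s ^ ((2 : ℤ) * 2 ^ m) = 1 → s = 1 := fun s hs => by
        rw [← pow_e_e' hK (m := m) s, ← pow_mul, mul_comm, pow_mul,
          show s ^ (2 * 2 ^ m) = 1 by simpa [← zpow_natCast] using hs, one_pow]
      have hcase := h1 γ hγ'
      simp only [List.mem_cons, Prod.mk.injEq, List.not_mem_nil, or_false] at hcase
      rcases hcase with ⟨a, b⟩ | ⟨a, b⟩ | ⟨a, b⟩ | ⟨a, b⟩ <;> rw [hex, a, b] at hs
      · simpa using hs
      · simpa using hs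
      · exact he s (by simpa using hs)
      · exact he s (by simpa [_root_.zpow_neg] using hs)
    obtain ⟨t, ht⟩ := Finite.surjective_of_injective (f := fun t : Kˣ => t ^ ex) (fun s t hst => by
      refine mul_inv_eq_one.1 (hkey _ ?_)
      rw [mul_zpow, _root_.inv_zpow]; exact mul_inv_eq_one.2 hst) b⁻¹
    refine ⟨(1, t), ?_⟩
    rw [top_cH hK, cH_eq]
    simp only [_root_.one_zpow, one_mul]
    rw [← hex, show t ^ ex = b⁻¹ from ht, inv_inv]

theorem exists_entry {γ : ℕ} (hγ : γ < 48) (h : γ ∈ [0, 1, 5, 17, 30, 42, 46]) (b : Kˣ) :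
    ∃ x ∈ (RG).Upos, (Mx x) top (ix γ hγ) = b := by
  obtain ⟨w, hw, hw1⟩ := entry_word hK (m := m) hγ h
  obtain ⟨y, hy⟩ := exists_scale hK (m := m) h b
  refine ⟨tH m y * w * (tH m y)⁻¹, (RG).H_conj_span _ ((mem_H1_iff hK).2 ⟨y, rfl⟩) _ hw, ?_⟩
  have hinv : (tH m y)⁻¹ = tH m y⁻¹ := inv_eq_of_mul_eq_one_right (by
    rw [← tH_mul hK, mul_inv_cancel, tH]
    rw [show (![(1 : Kˣ × Kˣ).1 ^ 2 ^ m, (1 : Kˣ × Kˣ).2 ^ 2 ^ m, (1 : Kˣ × Kˣ).2, (1 : Kˣ × Kˣ).1] : Fin 4 → Kˣ) = 1 from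
      funext fun i => by fin_cases i <;> simp]
    exact map_one _)
  have hcinv : cH m y⁻¹ γ = (cH m y γ)⁻¹ := by
    rw [cH_eq, cH_eq, Prod.fst_inv, Prod.snd_inv, _root_.inv_zpow, _root_.inv_zpow, mul_inv]
  rw [hinv, Units.val_mul, Units.val_mul, tH_diag hK y⁻¹, Matrix.mul_diagonal, tH_diag hK y,
    Matrix.diagonal_mul, hw1, mul_one]
  show (cH m y 47 : K) * (cH m y⁻¹ γ : K) = _
  rw [hcinv, ← Units.val_mul, hy]

/-- Multiplying the highest root vector by a scalar. -/
def FixLine (g : GL chevF4.Idx K) : Prop := ∃ c : K, ∀ a, (Mx g) a top = if a = top then c else 0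

omit hK in
theorem FixLine.mul {g h : GL chevF4.Idx K} : FixLine g → FixLine h → FixLine (g * h) := by
  rintro ⟨c, hc⟩ ⟨d, hd⟩
  exact ⟨c * d, fun a => by rw [col_mul hd, hc]; split <;> simp⟩

omit hK in
theorem FixLine.inv {g : GL chevF4.Idx K} : FixLine g → FixLine g⁻¹ := by
  rintro ⟨c, hc⟩
  refine ⟨c⁻¹, fun a => ?_⟩
  have h : ∀ b, (1 : Matrix chevF4.Idx chevF4.Idx K) b top = (Mx g⁻¹) b top * c := fun b => by
    rw [← col_mul hc, inv_mul_cancel, Units.val_one]
  have hc0 : c ≠ 0 := fun e => by simpa [e] using h top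
  have h' := h a
  rw [Matrix.one_apply] at h'
  split at h'
  · next e => rw [if_pos e, eq_comm, inv_eq_of_mul_eq_one_left h'.symm]
  · next e => rw [if_neg e]; exact (mul_eq_zero.1 h'.symm).resolve_right hc0

theorem exists_conj_not_fix (hm : 1 ≤ m) {g : GL chevF4.Idx K} (hg : g ∈ (RG).G) (h1 : g ≠ 1) :
    ∃ k ∈ (RG).G, ¬ FixLine (k * g * k⁻¹) := by
  have hs : IsSimpleGroup ↥(RG).G := by rw [← twisted_eq hK]; exact (simple_F4 hK hm).1
  by_contra hcon
  push Not at hcon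
  let N : Subgroup ↥(RG).G :=
    { carrier := {x | ∀ k : ↥(RG).G, FixLine ((k * x * k⁻¹ : ↥(RG).G) : GL chevF4.Idx K)}
      one_mem' := fun k => by
        refine ⟨1, fun a => ?_⟩
        simp [Matrix.one_apply]
      mul_mem' := fun {x y} hx hy k => by
        rw [show k * (x * y) * k⁻¹ = (k * x * k⁻¹) * (k * y * k⁻¹) by group, Subgroup.coe_mul]
        exact (hx k).mul (hy k)
      inv_mem' := fun {x} hx k => by
        rw [show k * x⁻¹ * k⁻¹ = (k * x * k⁻¹)⁻¹ by group, Subgroup.coe_inv]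
        exact (hx k).inv }
  have hN : N.Normal := ⟨fun x hx k k' => by
    rw [show k' * (k * x * k⁻¹) * k'⁻¹ = (k' * k) * x * (k' * k)⁻¹ by group]
    exact hx _⟩
  rcases hN.eq_bot_or_eq_top with h | h
  · have : (⟨g, hg⟩ : ↥(RG).G) ∈ N := fun k => hcon k k.2
    rw [h, Subgroup.mem_bot] at this
    exact h1 (congrArg Subtype.val this)
  · have hn : (⟨n0 hK (m := m), n0_mem_G hK⟩ : ↥(RG).G) ∈ N := h ▸ Subgroup.mem_top _
    have h2 := hn 1
    simp only [one_mul, inv_one, mul_one] at h2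
    obtain ⟨c, hc⟩ := h2
    have h3 : (Mx (n0 hK (m := m) * n0 hK (m := m))) top top = 0 := by
      rw [col_mul hc, n0_row hK (fun e : top = bot => absurd (ix_inj.1 e) (by norm_num)), zero_mul]
    rw [n0_mul_self, Units.val_one, Matrix.one_apply_eq] at h3
    exact one_ne_zero h3

theorem exists_conj_coeff (hm : 1 ≤ m) {g : GL chevF4.Idx K} (hg : g ∈ (RG).G) (h1 : g ≠ 1) (a : Kˣ) :
    ∃ k ∈ (RG).G, (Mx (k * g * k⁻¹)) top top = a := by
  obtain ⟨k, hk, hnot⟩ := exists_conj_not_fix hK hm hg h1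
  obtain ⟨v, hv, h, hh, d, u, hu, e, c, hγ, hc, hcol⟩ :=
    exists_bruhat hK (mul_mem (mul_mem hk hg) (inv_mem hk))
  have hne : gam d ≠ 47 := fun hp => hnot ⟨c, fun b => by
    rw [e, show v * h * nd hK (m := m) d * u = v * (h * nd hK (m := m) d * u) by group, col_mul hcol]
    simp only [hp, show ix 47 (by norm_num) = top from rfl]
    rw [pos_col (Upos_le_pos hK hv)]
    split <;> simp⟩
  have hmem : gam d ∈ [0, 1, 5, 17, 30, 42, 46] := by
    have := gam_table d
    simp only [List.mem_cons, List.not_mem_nil, or_false] at this ⊢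
    tauto
  obtain ⟨x, hx, hxa⟩ := exists_entry hK hγ hmem (a * (Units.mk0 c hc)⁻¹)
  refine ⟨x * (v⁻¹ * k), mul_mem (Upos_le_G hK hx) (mul_mem (inv_mem (Upos_le_G hK hv)) hk), ?_⟩
  rw [show x * (v⁻¹ * k) * g * (x * (v⁻¹ * k))⁻¹ = x * (v⁻¹ * (k * g * k⁻¹)) * (v * x⁻¹) by group, e,
    show x * (v⁻¹ * (v * h * nd hK (m := m) d * u)) * (v * x⁻¹) = x * (h * nd hK (m := m) d * u) * (v * x⁻¹) by
      group, col_mul (fun b => pos_col (Upos_le_pos hK (mul_mem hv (inv_mem hx))) b), mul_one, col_mul hcol, hxa,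
    Units.val_mul, Units.val_inv_eq_inv_val, Units.val_mk0, mul_assoc, inv_mul_cancel₀ hc, mul_one]

end Cfsg.Agent.ReeLargeThompson
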