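/-
The orbit of the highest root vector of F₄ under the Weyl group of ²F₄, and monomial columns.

* `gam`, `gam_table`, `gam_bot` : the image of the highest root;
* `nw_root_col`, `nw_inl_row` : columns of the Weyl representatives;
* `n0`, `n0_row` : the longest element;
* `entry_word` : elements of U with one entry equal to one.
-/
import Cfsg.Agent.EqLemmas
import Cfsg.Agent.Lib.Twisted.F4Suzuki
import Cfsg.Agent.Lib.Twisted.F4Comm
import Cfsg.Agent.Lib.Twisted.F4Gen
import Cfsg.Agent.Lib.ReeTwoInvol.BitModel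

set_option autoImplicit false
set_option maxRecDepth 100000
set_option linter.unusedSectionVars false

namespace Cfsg.Agent.ReeLargeThompson

open Cfsg.Lie Cfsg.Lie.ChevalleyDatum Matrix
open Cfsg.Agent.Chev Cfsg.Agent.ChevBN Cfsg.Agent.Twisted Cfsg.Agent.Twisted.F4
open Cfsg.Agent.ReeTwoInvol (mat ap vec bit okL)
open Cfsg.Agent.ReeUnipotent (code coord)

/-- The coordinate of a root. -/
def ix (r : ℕ) (h : r < 48) : chevF4.Idx := Sum.inr ⟨r, h⟩

/-- The coordinate of the highest root. -/
def top : chevF4.Idx := ix 47 (by norm_num)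

/-- The coordinate of the lowest root. -/
def bot : chevF4.Idx := ix 0 (by norm_num)

theorem ix_inj {r s : ℕ} {hr : r < 48} {hs : s < 48} : ix r hr = ix s hs ↔ r = s := by
  simp [ix, Fin.ext_iff]

/-- The image of the highest root. -/
def gam (d : DihedralGroup 8) : ℕ := wwN chevF4 (ew (wd d)) 47

theorem gam_table : ∀ d, gam d ∈ [0, 1, 5, 17, 30, 42, 46, 47] := by decide +kernel

/-- The longest element of the Weyl group. -/
def d0 : DihedralGroup 8 := DihedralGroup.r 4

theorem gam_bot : ∀ d, gam d = 0 → d = d0 ∨ d = d0 * Twisted.F4.gen 1 := by decide +kernel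

theorem d0_roots : ∀ r < 48, wwN chevF4 (ew (wd d0)) r = chevF4.neg r := by decide +kernel

theorem neg_top : ∀ r < 48, chevF4.neg r = 47 → r = 0 := by decide +kernel

theorem neg_zero' : chevF4.neg 0 = 47 := by decide +kernel

theorem ht_bounds : ∀ q < 48, (q ≠ 47 → ht chevF4 adjF4 q < ht chevF4 adjF4 47) ∧
    (q ≠ 0 → ht chevF4 adjF4 0 < ht chevF4 adjF4 q) ∧ ht chevF4 adjF4 47 > 0 ∧ ht chevF4 adjF4 0 < 0 := by
  decide +kernel

/-- Words with an entry one in the row of the highest root. -/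
def eWord (γ : ℕ) : List (List ℕ) :=
  let a := [33, 24]; let b := [27, 25, 28]
  if γ = 46 then [a] else if γ = 42 then [a, b] else if γ = 30 then [a, b, a] else if γ = 17 then [a, b, a, b]
  else if γ = 5 then [a, b, a, b, a] else if γ = 1 then [a, b, a, b, a, b] else [a, b, a, b, a, b, a]

theorem eWord_table : ∀ γ ∈ [0, 1, 5, 17, 30, 42, 46],
    (okL (eWord γ).flatten && (ap (eWord γ).flatten (2 ^ (4 + γ))).testBit 51) = true ∧
      ∀ w ∈ eWord γ, w = [33, 24] ∨ w = [27, 25, 28] := by
  decide +kernel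

variable {K : Type*} [Field K]

theorem pos_col {u : GL chevF4.Idx K} (hu : u ∈ chevF4.posUnipotent K) (a : chevF4.Idx) :
    (u : Matrix chevF4.Idx chevF4.Idx K) a top = if a = top then 1 else 0 := by
  obtain ⟨h1, h2⟩ := uTri_pos DataF4.good rootsF4 hu
  split
  · next h => rw [h, h2]
  · next h =>
    by_contra hne
    rcases h1 a top hne with e | e
    · exact h e
    · refine absurd e (not_lt.2 (le_of_lt ?_))
      rcases a with i | s
      · exact (ht_bounds 0 (by norm_num)).2.2.1
      · exact (ht_bounds s.val s.isLt).1 fun hs => h (congrArg Sum.inr (Fin.ext hs))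

theorem pos_row {u : GL chevF4.Idx K} (hu : u ∈ chevF4.posUnipotent K) {b : chevF4.Idx} (hb : b ≠ bot) :
    (u : Matrix chevF4.Idx chevF4.Idx K) bot b = 0 := by
  obtain ⟨h1, -⟩ := uTri_pos DataF4.good rootsF4 hu
  by_contra hne
  rcases h1 bot b hne with e | e
  · exact hb e.symm
  · refine absurd e (not_lt.2 (le_of_lt ?_))
    rcases b with i | s
    · exact (ht_bounds 0 (by norm_num)).2.2.2
    · exact (ht_bounds s.val s.isLt).2.1 fun hs => hb (congrArg Sum.inr (Fin.ext hs))

theorem col_mul {A B : GL chevF4.Idx K} {c : K} {j b : chevF4.Idx}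
    (hB : ∀ a, (B : Matrix chevF4.Idx chevF4.Idx K) a j = if a = b then c else 0) (a : chevF4.Idx) :
    ((A * B : GL chevF4.Idx K) : Matrix chevF4.Idx chevF4.Idx K) a j =
      (A : Matrix chevF4.Idx chevF4.Idx K) a b * c := by
  rw [Units.val_mul, Matrix.mul_apply, Finset.sum_eq_single b (fun x _ hx => by rw [hB, if_neg hx, mul_zero])
    (fun h => absurd (Finset.mem_univ _) h), hB, if_pos rfl]

theorem nw_root_col (l : List (Fin chevF4.rank)) {s : ℕ} (hs : s < 48) : ∃ (c : K) (h : wwN chevF4 l s < 48),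
    c ≠ 0 ∧ ∀ a, ((RF K).nw l : Matrix chevF4.Idx chevF4.Idx K) a (ix s hs) =
      if a = ix (wwN chevF4 l s) h then c else 0 := by
  induction l with
  | nil => exact ⟨1, hs, one_ne_zero, fun a => by
      rw [show (RF K).nw [] = 1 from rfl, Units.val_one, Matrix.one_apply]; rfl⟩
  | cons i l ih =>
    obtain ⟨c, hγ, hc, hcol⟩ := ih
    have hi := DataF4.good.simple_lt i.val i.isLt
    set γ := wwN chevF4 l s
    have hγ' : Chev.refl chevF4 (chevF4.simple i.val) γ < 48 := ChevSt.refl_lt DataF4.good hi hγ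
    set η : K := (nSign chevF4 (chevF4.simple i.val) γ : K) * (1 : K) ^ (-chevF4.pairing (chevF4.simple i.val) γ)
    have hη : η ≠ 0 := by
      refine mul_ne_zero ?_ (zpow_ne_zero _ one_ne_zero)
      rcases (nSign_cases DataF4.good hi hγ).1 with h | h <;> rw [h] <;> simp
    refine ⟨η * c, hγ', mul_ne_zero hη hc, fun a => ?_⟩
    rw [show (RF K).nw (i :: l) = ng DataF4.good K (chevF4.simple i.val) 1 * (RF K).nw l from rfl, col_mul hcol]
    have h := congrFun (DataF4.good.n_root hi hγ (one_ne_zero (α := K))) a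
    rw [mulVec_ev chevF4 _ hγ] at h
    rw [coe_ng, show chevF4.nMat K (chevF4.simple i.val) 1 a (ix γ hγ) = _ from h, ev_of_lt chevF4 K hγ']
    show (η • (Pi.single (Sum.inr ⟨_, hγ'⟩) 1 : chevF4.Idx → K)) a * c = _
    simp only [Pi.smul_apply, smul_eq_mul, ix]
    by_cases h' : a = Sum.inr ⟨_, hγ'⟩
    · subst h'; simp [wwN, wN, η, γ]
    · rw [Pi.single_eq_of_ne h', mul_zero, zero_mul]
      exact (if_neg h').symm

theorem nw_inl_row (l : List (Fin chevF4.rank)) (u : Fin chevF4.nroots) (i : Fin chevF4.rank) :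
    ((RF K).nw l : Matrix chevF4.Idx chevF4.Idx K) (Sum.inr u) (Sum.inl i) = 0 := by
  induction l generalizing u with
  | nil => rw [show (RF K).nw [] = 1 from rfl, Units.val_one, Matrix.one_apply_ne Sum.inr_ne_inl]
  | cons j l ih =>
    rw [show (RF K).nw (j :: l) = ng DataF4.good K (chevF4.simple j.val) 1 * (RF K).nw l from rfl,
      Units.val_mul, Matrix.mul_apply]
    refine Finset.sum_eq_zero fun b _ => ?_
    rcases b with k | v
    · have h := congrFun (DataF4.good.n_inl (DataF4.good.simple_lt j.val j.isLt) (one_ne_zero (α := K)) k)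
        (Sum.inr u)
      rw [Matrix.mulVec_single_one] at h
      rw [coe_ng, show chevF4.nMat K (chevF4.simple j.val) 1 (Sum.inr u) (Sum.inl k) = _ from h]
      simp [hv]
    · rw [ih, mul_zero]

variable [Fintype K] [CharP K 2] {m : ℕ} (hK : Fintype.card K = 2 ^ (2 * m + 1))

/-- The longest element. -/
noncomputable def n0 : GL chevF4.Idx K := nd hK (m := m) d0

theorem n0_mul_self : n0 hK * n0 hK = 1 := by
  rw [n0, nd_mul, show d0 * d0 = 1 by decide, nd_one]

theorem n0_inv : (n0 hK)⁻¹ = n0 hK := inv_eq_of_mul_eq_one_right (n0_mul_self hK)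

theorem nd_col (d : DihedralGroup 8) {s : ℕ} (hs : s < 48) : ∃ (c : K) (h : wwN chevF4 (ew (wd d)) s < 48),
    c ≠ 0 ∧ ∀ a, (nd hK (m := m) d : Matrix chevF4.Idx chevF4.Idx K) a (ix s hs) =
      if a = ix (wwN chevF4 (ew (wd d)) s) h then c else 0 := by
  rw [nd, nw'_eq]
  exact nw_root_col _ hs

theorem n0_row {a : chevF4.Idx} (ha : a ≠ bot) : (n0 hK : Matrix chevF4.Idx chevF4.Idx K) top a = 0 := by
  rcases a with i | s
  · rw [n0, nd, nw'_eq]
    exact nw_inl_row _ _ i
  · obtain ⟨c, h, -, e⟩ := nd_col hK d0 (s := s.val) s.isLt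
    rw [n0, show (Sum.inr s : chevF4.Idx) = ix s.val s.isLt from rfl, e, if_neg]
    intro e'
    rw [top, ix_inj, d0_roots _ s.isLt] at e'
    exact ha (congrArg Sum.inr (Fin.ext (neg_top _ s.isLt e'.symm)))

theorem mat_cast (L : List ℕ) (hL : ∀ r ∈ L, r < 48) :
    ((mat L : GL chevF4.Idx (ZMod 2)) : Matrix chevF4.Idx chevF4.Idx (ZMod 2)).map (ZMod.castHom dvd_rfl K) =
      ((L.map fun r => xF K r 1).prod : GL chevF4.Idx K) := by
  induction L with
  | nil => rw [ReeTwoInvol.mat_nil, Units.val_one, List.map_nil, List.prod_nil, Units.val_one,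
      Matrix.map_one _ (map_zero _) (map_one _)]
  | cons r L ih =>
    have hr := hL r List.mem_cons_self
    rw [ReeTwoInvol.mat_cons, List.map_cons, List.prod_cons, Units.val_mul, Units.val_mul, Matrix.map_mul,
      ih fun s hs => hL s (List.mem_cons_of_mem _ hs), coe_xg, coe_xg, x_eq_xR chevF4 hr, x_eq_xR chevF4 hr,
      xR_map, map_one]

/-- The elements of U with an entry one in the row of the highest root. -/
theorem entry_word {γ : ℕ} (hγ : γ < 48) (h : γ ∈ [0, 1, 5, 17, 30, 42, 46]) :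
    ∃ x ∈ (rgdF4' hK (m := m)).Upos, (x : Matrix chevF4.Idx chevF4.Idx K) top (ix γ hγ) = 1 := by
  obtain ⟨he, hw⟩ := eWord_table γ h
  simp only [Bool.and_eq_true, ReeTwoInvol.okL_iff] at he
  refine ⟨(((eWord γ).flatten).map fun r => xF K r 1).prod, ?_, ?_⟩
  · rw [List.map_flatten, List.prod_flatten]
    refine Subgroup.list_prod_mem _ fun g hg => ?_
    simp only [List.map_map, List.mem_map, Function.comp_apply] at hg
    obtain ⟨w, hw', rfl⟩ := hg
    rcases hw w hw' with rfl | rfl
    · refine (rgdF4' hK (m := m)).U_le_Upos (r := (0 : Fin 16)) (show (0 : Fin 16).val < 8 by decide) ((mem_X0_iff hK).2 ⟨1, ?_⟩)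
      simp
    · refine (rgdF4' hK (m := m)).U_le_Upos (r := (7 : Fin 16)) (show (7 : Fin 16).val < 8 by decide) ((mem_X7_iff hK).2 ⟨1, 0, ?_⟩)
      simp [xF_zero', mul_assoc]
  · rw [← mat_cast _ he.1, Matrix.map_apply]
    have h1 := congrFun (ReeTwoInvol.mulVec_mat _ he.1 (2 ^ code (ix γ hγ))) top
    rw [ReeTwoInvol.vec_two_pow, Matrix.mulVec_single_one, Matrix.col_apply] at h1
    rw [h1, ReeTwoInvol.vec, bit, show code top = 51 from rfl, show code (ix γ hγ) = 4 + γ from rfl, if_pos he.2, map_one]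

end Cfsg.Agent.ReeLargeThompson
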