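/-
Every non-identity element of ²F₄(q), q ≥ 8, is a product of two conjugates of one semisimple element.

* `exists_translate` : translations by a fixed point free normalised subgroup stay in the class;
* `exists_large` : the covering.
-/
import Cfsg.Agent.EqLemmas
import Cfsg.Agent.Lib.ReeLargeThompson.Cell
import Cfsg.Agent.Lib.G2Thompson.Cover

set_option autoImplicit false
set_option maxRecDepth 100000
set_option linter.unusedSectionVars false

namespace Cfsg.Agent.ReeLargeThompson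

open Cfsg.Lie Cfsg.Lie.ChevalleyDatum Matrix
open Cfsg.Agent.Chev Cfsg.Agent.ChevBN Cfsg.Agent.Twisted Cfsg.Agent.Twisted.F4

variable {K : Type*} [Field K] [Fintype K] [CharP K 2] {m : ℕ} (hK : Fintype.card K = 2 ^ (2 * m + 1))
include hK

theorem tH_pow (x : Kˣ × Kˣ) : ∀ n : ℕ, tH m x ^ n = tH m (x ^ n)
  | 0 => by
    rw [pow_zero, pow_zero, tH,
      show (![(1 : Kˣ × Kˣ).1 ^ 2 ^ m, (1 : Kˣ × Kˣ).2 ^ 2 ^ m, (1 : Kˣ × Kˣ).2, (1 : Kˣ × Kˣ).1] : Fin 4 → Kˣ) = 1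
        from funext fun i => by fin_cases i <;> simp]
    exact (map_one _).symm
  | n + 1 => by rw [pow_succ, pow_succ, tH_pow x n, tH_mul hK]

theorem exists_large (hm : 1 ≤ m) :
    ∃ x : GL chevF4.Idx K, x ∈ twistedF4 K (2 ^ m) ∧ Odd (orderOf x) ∧ ∀ g ∈ twistedF4 K (2 ^ m), g ≠ 1 →
      ∃ a ∈ twistedF4 K (2 ^ m), ∃ b ∈ twistedF4 K (2 ^ m), g = a * x * a⁻¹ * (b * x * b⁻¹) := by
  classical
  rw [twisted_eq hK]
  obtain ⟨g₀, hg₀⟩ := IsCyclic.exists_generator (α := Kˣ)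
  have hord : orderOf g₀ = Nat.card Kˣ := orderOf_eq_card_of_forall_mem_zpowers hg₀
  set n := Nat.card Kˣ with hn
  have hq : n = 2 ^ (2 * m + 1) - 1 := by rw [hn, Nat.card_units, Nat.card_eq_fintype_card, hK]
  have hodd : Odd n := by
    rw [hq, Nat.odd_sub Nat.one_le_two_pow]
    simp [Nat.even_pow]
  have h5 : Nat.Coprime n 5 := by
    refine ((Nat.Prime.coprime_iff_not_dvd (by norm_num : Nat.Prime 5)).2 ?_).symm
    intro hd
    have h4 : ∀ k : ℕ, 4 ^ k % 5 = 1 ∨ 4 ^ k % 5 = 4 := fun k => by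
      induction k with
      | zero => exact Or.inl rfl
      | succ k ih => rw [pow_succ, Nat.mul_mod]; rcases ih with h | h <;> rw [h] <;> norm_num
    have h := h4 m
    rw [hq, show 2 ^ (2 * m + 1) = 2 * 4 ^ m by rw [pow_succ, pow_mul]; norm_num; ring] at hd
    have : 0 < 4 ^ m := by positivity
    omega
  set z : Kˣ × Kˣ := hx m g₀ true with hz
  have hfix : ∀ r ∈ cls 15, cH m z r = 1 := fun r hr => eq_one_of_sq' hK (by
    rw [hz, cH_hx_sq hK, (by decide +kernel : ∀ r ∈ cls 15, red true r = (0, 0)) r hr]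
    simp)
  have hcent : ∀ {l}, l ∈ LL K m → Commute (tH m z) l := fun hl =>
    tH_commute hK (fun r hr => cH_hx_fix hK g₀ true hr) hfix hl
  have hz5 : z ^ 5 = hx m (g₀ ^ 5) true := by
    rw [hz]
    simp only [hx, Prod.pow_mk, ← zpow_natCast, ← _root_.zpow_mul, mul_comm]
  have hfree : ∀ j < 7, ∀ r ∈ cls j, cH m (z ^ 5) r ≠ 1 := fun j hj r hr => by
    rw [hz5]
    refine cH_hx_ne hK hm ?_ true (by omega : j < 16) (show j ≠ 7 by omega) (show j ≠ 15 by omega) hr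
    rw [orderOf_pow' _ (by norm_num : 5 ≠ 0), hord, h5.gcd_eq_one, Nat.div_one]
  set x : GL chevF4.Idx K := cPt * tH m z with hxdef
  have hS : S7 K m ≤ LL K m := le_sup_left
  have htL : tH m z ∈ LL K m := Subgroup.mem_sup_right ((mem_H1_iff hK).2 ⟨z, rfl⟩)
  have hxL : x ∈ LL K m := mul_mem (hS (cPt_mem hK)) htL
  have hcc : Commute cPt (tH m z) := (hcent (hS (cPt_mem hK))).symm
  refine ⟨x, LL_le_G hK hxL, ?_, fun g hg h1 => ?_⟩
  · have hx1 : x ^ (5 * n) = 1 := by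
      rw [hxdef, hcc.mul_pow, pow_mul, cPt_pow, one_pow, one_mul, tH_pow hK,
        show z ^ (5 * n) = 1 by rw [mul_comm, pow_mul]; exact Prod.ext (by simp [hn]) (by simp [hn]),
        ← pow_zero z, ← tH_pow hK, pow_zero]
    exact Odd.of_dvd_nat (Odd.mul (by decide) hodd) (orderOf_dvd_of_pow_eq_one hx1)
  obtain ⟨k, hk, hka⟩ := exists_conj_coeff hK hm hg h1 ((z ^ 2).1)
  obtain ⟨v, hv, s, hs, y, u, hu, e, hy⟩ := cell hK (mul_mem (mul_mem hk hg) (inv_mem hk))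
    (by rw [hka]; exact Units.ne_zero _)
  have hy1 : y.1 = (z ^ 2).1 := Units.ext (hy.trans hka)
  have hs' : s * (tH m y * (tH m (z ^ 2))⁻¹) ∈ S7 K m := mul_mem hs (coset_S7 hK hy1)
  obtain ⟨p, hp, q, hq', epq⟩ := sz_cover hK hm hs'
  have hxconj : ∀ {w}, w ∈ S7 K m → w * x * w⁻¹ = w * cPt * w⁻¹ * tH m z := fun {w} hw => by
    rw [hxdef, show w * (cPt * tH m z) * w⁻¹ = w * cPt * w⁻¹ * (w * tH m z * w⁻¹) by group,
      ← (hcent (hS hw)).eq, mul_inv_cancel_right]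
  have el : s * tH m y = p * x * p⁻¹ * (q * x * q⁻¹) := by
    have hcq : tH m z * (q * cPt * q⁻¹) = q * cPt * q⁻¹ * tH m z :=
      (hcent (hS (mul_mem (mul_mem hq' (cPt_mem hK)) (inv_mem hq')))).eq
    rw [hxconj hp, hxconj hq', show p * cPt * p⁻¹ * tH m z * (q * cPt * q⁻¹ * tH m z) =
      p * cPt * p⁻¹ * (tH m z * (q * cPt * q⁻¹)) * tH m z by group, hcq,
      show p * cPt * p⁻¹ * (q * cPt * q⁻¹ * tH m z) * tH m z =
        p * cPt * p⁻¹ * (q * cPt * q⁻¹) * (tH m z * tH m z) by group, ← epq, ← tH_mul hK, ← sq]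
    group
  have hfp : ∀ {w}, w ∈ S7 K m → ∀ {a}, Commute (w * x * w⁻¹) a → Commute (tH m (z ^ 5)) a := by
    intro w hw a hc
    have h := hc.pow_left 5
    rwa [conj_pow, hxdef, hcc.mul_pow, cPt_pow, one_mul, tH_pow hK, ← ((show Commute (tH m (z ^ 5)) w by
      rw [← tH_pow hK]; exact (hcent (hS hw)).pow_left 5)).eq, mul_inv_cancel_right] at h
  have hwL : ∀ {w}, w ∈ S7 K m → w * x * w⁻¹ ∈ LL K m := fun hw =>
    mul_mem (mul_mem (hS hw) hxL) (inv_mem (hS hw))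
  haveI : Finite (UP hK (m := m)) := inferInstance
  haveI : Finite (UM hK (m := m)) := inferInstance
  obtain ⟨⟨a, ha, ea⟩, -⟩ := G2Thompson.exists_conj_translate (A := UM hK (m := m)) (m := p * x * p⁻¹)
    (fun t ht => LL_norm_UM hK (hwL hp) ht)
    (fun t ht => by simpa using LL_norm_UM hK (inv_mem (hwL hp)) ht)
    (fun t ht htc => fpf_UM hK hfree ht (hfp hp htc)) hv
  obtain ⟨-, b, hb, eb⟩ := G2Thompson.exists_conj_translate (A := UP hK (m := m)) (m := q * x * q⁻¹)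
    (fun t ht => LL_norm_UP hK (hwL hq') ht)
    (fun t ht => by simpa using LL_norm_UP hK (inv_mem (hwL hq')) ht)
    (fun t ht htc => fpf_UP hK hfree ht (hfp hq' htc)) hu
  refine ⟨k⁻¹ * a * p, mul_mem (mul_mem (inv_mem hk) (UM_le_G hK ha)) (S7_le_G hK hp),
    k⁻¹ * b * q, mul_mem (mul_mem (inv_mem hk) (UP_le_G hK hb)) (S7_le_G hK hq'), ?_⟩
  rw [show g = k⁻¹ * (k * g * k⁻¹) * k by group, e, el,
    show v * (p * x * p⁻¹ * (q * x * q⁻¹)) * u = (v * (p * x * p⁻¹)) * (q * x * q⁻¹ * u) by group, ← ea, ← eb]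
  group

end Cfsg.Agent.ReeLargeThompson
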