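/-
Displacements of chambers: an element of ²F₄(q) of odd index Borel subgroup moves some chamber by a short word.

* `cD` : the Weyl element of a double coset;
* `adj`, `adj_pow` : alternating panel sums modulo two give the all-one matrix after eight steps;
* `exists_short` : some conjugate lies in `B`, `B n₀ B`, `B n₁ B` or `B n₀ n₁ B`.
-/
import Cfsg.Agent.EqLemmas
import Cfsg.Agent.Lib.Twisted.F4Facts
import Cfsg.Agent.Lib.RGD.Core
import Mathlib.LinearAlgebra.Matrix.Charpoly.Coeff

set_option autoImplicit false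
set_option maxRecDepth 100000
set_option linter.unusedSectionVars false
set_option linter.style.haveILetI false
set_option synthInstance.maxHeartbeats 400000
set_option synthInstance.maxSize 4000

namespace Cfsg.Agent.ReeLargeThompson

open Cfsg.Lie Matrix
open Cfsg.Agent.Chev Cfsg.Agent.ChevBN Cfsg.Agent.Twisted Cfsg.Agent.Twisted.F4

variable {K : Type*} [Field K] [Fintype K] [CharP K 2] {m : ℕ} (hK : Fintype.card K = 2 ^ (2 * m + 1))

set_option quotPrecheck false in
local notation "RG" => (rgdF4' hK (m := m))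

/-- The lower Weyl element of a panel. -/
def low (i : Fin 2) (d : DihedralGroup 8) : DihedralGroup 8 :=
  if ((wd d).foldr wcl (sc i)).val < 8 then d else d * Twisted.F4.gen i

theorem low_pos : ∀ i d, ((wd (low i d)).foldr wcl (sc i)).val < 8 := by decide +kernel

theorem low_ne : ∀ i d, low i d ≠ low i d * Twisted.F4.gen i := by decide +kernel

theorem gen_pos : ((wd (Twisted.F4.gen 0)).foldr wcl (sc 1)).val < 8 := by decide +kernel

theorem gen_sq : ∀ i, Twisted.F4.gen i * Twisted.F4.gen i = 1 := by decide +kernel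

/-- One step of the row. -/
def nextL (i : Fin 2) (L : Finset (DihedralGroup 8)) : Finset (DihedralGroup 8) :=
  Finset.univ.filter fun d => low i d ∈ L

/-- Two steps of the row. -/
def next2 (L : Finset (DihedralGroup 8)) : Finset (DihedralGroup 8) := nextL 1 (nextL 0 L)

theorem next_four : next2 (next2 (next2 (next2 {1}))) = Finset.univ := by decide +kernel

include hK

theorem nd_gen (i : Fin 2) : nd hK (m := m) (Twisted.F4.gen i) = (RG).n i := by
  rw [show Twisted.F4.gen i = ([i].map Twisted.F4.gen).prod by simp, ← nw'_eq_nd hK, RGD.RootData.nw_cons,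
    RGD.RootData.nw_nil, mul_one]

theorem exists_cell {g : GL chevF4.Idx K} (hg : g ∈ (RG).G) :
    ∃ d, ∃ b ∈ (RG).B, ∃ b' ∈ (RG).B, g = b * nd hK (m := m) d * b' := by
  obtain ⟨b, hb, l, u, hu, rfl⟩ := (RG).exists_normalForm hg
  exact ⟨_, b, hb, u, (RG).Upos_le_B ((RG).Uminus_le_Upos l hu), by rw [nw'_eq_nd hK]⟩

/-- The Weyl element of the double coset. -/
noncomputable def cD (g : ↥(RG).G) : DihedralGroup 8 := (exists_cell hK g.2).choose

theorem cD_spec (g : ↥(RG).G) : ∃ b ∈ (RG).B, ∃ b' ∈ (RG).B,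
    (g : GL chevF4.Idx K) = b * nd hK (m := m) (cD hK g) * b' := (exists_cell hK g.2).choose_spec

theorem cD_eq (g : ↥(RG).G) {d : DihedralGroup 8} {b b' : GL chevF4.Idx K} (hb : b ∈ (RG).B) (hb' : b' ∈ (RG).B)
    (e : (g : GL chevF4.Idx K) = b * nd hK (m := m) d * b') : cD hK g = d := by
  obtain ⟨c, hc, c', hc', e'⟩ := cD_spec hK g
  have h := (RG).mem_H_of_eq (nd_mem_N hK (cD hK g)) (nd_mem_N hK d) hc hc' hb hb' (e'.symm.trans e)
  refine (nd_sep hK ((RG).conj_H_mem (nd_mem_N hK (cD hK g)) h) ?_).symm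
  group

theorem cell_mul {d : DihedralGroup 8} {i : Fin 2} (hpos : ((wd d).foldr wcl (sc i)).val < 8)
    {b : GL chevF4.Idx K} (hb : b ∈ (RG).B) :
    ∃ b₁ ∈ (RG).B, ∃ b₂ ∈ (RG).B,
      nd hK (m := m) d * b * (RG).n i = b₁ * nd hK (m := m) (d * Twisted.F4.gen i) * b₂ := by
  obtain ⟨u, hu, h, hh, rfl⟩ := (RG).exists_B hb
  obtain ⟨p, hp, hp', x, hx, rfl⟩ := (RG).exists_split (wd d) hu
  have hxd : x ∈ (RG).Udel i := (RG).span_mono (A' := {s : Fin 16 | (RG).pos s ∧ s ≠ (RG).simple i})
    (fun r hr => ⟨hr.1, fun e => hr.2 (e ▸ hpos)⟩) hx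
  refine ⟨(RG).nw (wd d) * p * ((RG).nw (wd d))⁻¹, (RG).Upos_le_B hp',
    ((RG).n i)⁻¹ * x * (RG).n i * (((RG).n i)⁻¹ * h * (RG).n i),
    mul_mem ((RG).Udel_le_B i ((RG).Udel_conj_n' i hxd)) ((RG).H_le_B ((RG).n_conj_H' i hh)), ?_⟩
  rw [← nd_mul, nd_gen hK]
  show (RG).nw (wd d) * _ * _ = _ * ((RG).nw (wd d) * _) * _
  group

/-- The Borel subgroup in the group. -/
noncomputable def Bs : Subgroup ↥(RG).G := (RG).B.subgroupOf (RG).G

/-- The minimal parabolic subgroups in the group. -/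
noncomputable def Ps (i : Fin 2) : Subgroup ↥(RG).G := ((RG).cellSubgroup i).subgroupOf (RG).G

theorem Bs_le_Ps (i : Fin 2) : Bs hK (m := m) ≤ Ps hK (m := m) i := fun _ hx => Or.inl hx

/-- The chambers. -/
abbrev Cham := ↥(RG).G ⧸ Bs hK (m := m)

/-- The panel of a chamber. -/
noncomputable def pan (i : Fin 2) : Cham hK (m := m) → ↥(RG).G ⧸ Ps hK (m := m) i :=
  Subgroup.quotientMapOfLE (Bs_le_Ps hK i)

/-- The Weyl element of a chamber. -/
noncomputable def cC : Cham hK (m := m) → DihedralGroup 8 :=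
  Quotient.lift (cD hK (m := m)) fun a b h => by
    have h' : (a⁻¹ * b : ↥(RG).G) ∈ Bs hK (m := m) := QuotientGroup.leftRel_apply.1 h
    obtain ⟨c, hc, c', hc', e⟩ := cD_spec hK a
    exact (cD_eq hK b hc (mul_mem hc' h') (by
      rw [← mul_assoc, ← e, map_mul, map_inv, Subgroup.subtype_apply, Subgroup.subtype_apply, mul_inv_cancel_left])).symm

theorem cC_mk (g : ↥(RG).G) : cC hK (QuotientGroup.mk g : Cham hK (m := m)) = cD hK g := rfl

theorem exists_lower (i : Fin 2) (c : Cham hK (m := m)) : ∃ c₀ : Cham hK (m := m),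
    pan hK i c₀ = pan hK i c ∧ cC hK c₀ = low i (cC hK c) ∧
      ∀ c', pan hK i c' = pan hK i c → c' = c₀ ∨ cC hK c' = low i (cC hK c) * Twisted.F4.gen i := by
  have main : ∀ c : Cham hK (m := m), ((wd (cC hK c)).foldr wcl (sc i)).val < 8 →
      ∀ c', pan hK i c' = pan hK i c → c' = c ∨ cC hK c' = cC hK c * Twisted.F4.gen i := by
    intro c hpos c' he
    induction c using QuotientGroup.induction_on with
    | H g =>
    induction c' using QuotientGroup.induction_on with
    | H g' =>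
    have h : (g⁻¹ * g' : ↥(RG).G) ∈ Ps hK (m := m) i := QuotientGroup.eq.1 he.symm
    rcases h with h | h
    · exact Or.inl (QuotientGroup.eq.2 (show g⁻¹ * g' ∈ Bs hK (m := m) from h)).symm
    · right
      obtain ⟨p, hp, p', hp', e⟩ := DoubleCoset.mem_doubleCoset.1 h
      obtain ⟨b, hb, b', hb', eg⟩ := cD_spec hK g
      rw [cC_mk] at hpos
      obtain ⟨b₁, h1, b₂, h2, e1⟩ := cell_mul hK hpos (mul_mem hb' hp)
      rw [cC_mk, cC_mk]
      refine cD_eq hK g' (mul_mem hb h1) (mul_mem h2 hp') ?_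
      calc (g' : GL chevF4.Idx K) = (g : GL chevF4.Idx K) * (p * (RG).n i * p') := by
            rw [← e, map_mul, map_inv, Subgroup.subtype_apply, Subgroup.subtype_apply, mul_inv_cancel_left]
        _ = b * (nd hK (m := m) (cD hK g) * (b' * p) * (RG).n i) * p' := by rw [eg]; group
        _ = _ := by rw [e1]; group
  by_cases hpos : ((wd (cC hK c)).foldr wcl (sc i)).val < 8
  · rw [show low i (cC hK c) = cC hK c from if_pos hpos]
    exact ⟨c, rfl, rfl, main c hpos⟩
  · induction c using QuotientGroup.induction_on with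
    | H g =>
    obtain ⟨b, hb, b', hb', eg⟩ := cD_spec hK g
    let p : ↥(RG).G := ⟨b'⁻¹ * (RG).n i, mul_mem (inv_mem ((RG).B_le_G hb')) ((RG).n_mem_G i)⟩
    have hp : p ∈ Ps hK (m := m) i := Or.inr (DoubleCoset.mem_doubleCoset.2
      ⟨b'⁻¹, inv_mem hb', 1, one_mem _, by simp [p]⟩)
    have hlow : low i (cC hK (QuotientGroup.mk g : Cham hK (m := m))) = cD hK g * Twisted.F4.gen i :=
      if_neg hpos
    have hc0 : cC hK (QuotientGroup.mk (g * p) : Cham hK (m := m)) = cD hK g * Twisted.F4.gen i := by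
      rw [cC_mk]
      refine cD_eq hK (g * p) hb (one_mem _) ?_
      rw [← nd_mul, nd_gen hK, Subgroup.coe_mul]
      simp [p, eg, mul_assoc]
    have hpan : pan hK i (QuotientGroup.mk (g * p) : Cham hK (m := m)) = pan hK i (QuotientGroup.mk g) := by
      show (QuotientGroup.mk (g * p) : ↥(RG).G ⧸ Ps hK (m := m) i) = QuotientGroup.mk g
      exact QuotientGroup.mk_mul_of_mem g hp
    refine ⟨_, hpan, hc0.trans hlow.symm, fun c' hc' => ?_⟩
    have hl := low_pos i (cC hK (QuotientGroup.mk g : Cham hK (m := m)))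
    rw [hlow, ← hc0] at hl
    rcases main _ hl c' (hc'.trans hpan.symm) with h | h
    · exact Or.inl h
    · exact Or.inr (by rw [h, hc0, hlow])

/-- Same panel, modulo two. -/
noncomputable def adj (i : Fin 2) : Matrix (Cham hK (m := m)) (Cham hK (m := m)) (ZMod 2) :=
  open Classical in Matrix.of fun c d => if pan hK i c = pan hK i d then 1 else 0

/-- The two kinds of panels in turn. -/
noncomputable def adjTwo [Fintype (Cham hK (m := m))] : Matrix (Cham hK (m := m)) (Cham hK (m := m)) (ZMod 2) :=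
  adj hK (m := m) 0 * adj hK (m := m) 1

theorem adj_inv (i : Fin 2) (h : ↥(RG).G) (c d : Cham hK (m := m)) :
    adj hK (m := m) i (h • c) (h • d) = adj hK (m := m) i c d := by
  induction c using QuotientGroup.induction_on with
  | H a =>
  induction d using QuotientGroup.induction_on with
  | H b =>
  have e : (h * a)⁻¹ * (h * b) = a⁻¹ * b := by group
  simp only [adj, pan, Matrix.of_apply, MulAction.Quotient.smul_mk, smul_eq_mul,
    Subgroup.quotientMapOfLE_apply_mk]
  classical
  exact if_congr (by rw [QuotientGroup.eq, QuotientGroup.eq, e]) rfl rfl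

theorem inv_mul [Fintype (Cham hK (m := m))] {N N' : Matrix (Cham hK (m := m)) (Cham hK (m := m)) (ZMod 2)}
    (h1 : ∀ (h : ↥(RG).G) c d, N (h • c) (h • d) = N c d)
    (h2 : ∀ (h : ↥(RG).G) c d, N' (h • c) (h • d) = N' c d) :
    ∀ (h : ↥(RG).G) c d, (N * N') (h • c) (h • d) = (N * N') c d := by
  intro h c d
  rw [Matrix.mul_apply, Matrix.mul_apply]
  exact (Fintype.sum_equiv (MulAction.toPerm h) _ _ fun e => by
    simp [MulAction.toPerm_apply, h1, h2]).symm

theorem adjTwo_inv [Fintype (Cham hK (m := m))] (h : ↥(RG).G) (c d : Cham hK (m := m)) :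
    adjTwo hK (m := m) (h • c) (h • d) = adjTwo hK (m := m) c d :=
  inv_mul hK (adj_inv hK 0) (adj_inv hK 1) h c d

/-- `g` has a conjugate in one of four cells. -/
def Short (g : GL chevF4.Idx K) : Prop :=
  ∃ k ∈ (RG).G, ∃ d ∈ [(1 : DihedralGroup 8), Twisted.F4.gen 0, Twisted.F4.gen 1,
    Twisted.F4.gen 0 * Twisted.F4.gen 1],
    ∃ b ∈ (RG).B, ∃ b' ∈ (RG).B, k⁻¹ * g * k = b * nd hK (m := m) d * b'

theorem short_of_panels {g : GL chevF4.Idx K} (hg : g ∈ (RG).G) {c e : Cham hK (m := m)}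
    (h0 : pan hK 0 c = pan hK 0 e) (h1 : pan hK 1 e = pan hK 1 ((⟨g, hg⟩ : ↥(RG).G) • c)) :
    Short hK (m := m) g := by
  induction c using QuotientGroup.induction_on with
  | H k =>
  induction e using QuotientGroup.induction_on with
  | H a =>
  have hp : k⁻¹ * a ∈ Ps hK (m := m) 0 := QuotientGroup.eq.1 h0
  have hq : a⁻¹ * (⟨g, hg⟩ * k) ∈ Ps hK (m := m) 1 := QuotientGroup.eq.1 h1
  rw [Ps, Subgroup.mem_subgroupOf, Subgroup.coe_mul, Subgroup.coe_inv] at hp hq
  rw [Subgroup.coe_mul] at hq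
  set A : GL chevF4.Idx K := (a : GL chevF4.Idx K)
  set C : GL chevF4.Idx K := (k : GL chevF4.Idx K) with hC
  have e : C⁻¹ * g * C = C⁻¹ * A * (A⁻¹ * (g * C)) := by group
  have hkG : C ∈ (RG).G := k.2
  generalize C⁻¹ * A = p at hp e
  generalize A⁻¹ * (g * C) = q at hq e
  rcases hp with hpB | hpC
  · rcases hq with hqB | hqC
    · exact ⟨C, hkG, 1, by simp, _, mul_mem hpB hqB, 1, one_mem _, by rw [e, nd_one, mul_one, mul_one]⟩
    · obtain ⟨b, hb, b', hb', rfl⟩ := DoubleCoset.mem_doubleCoset.1 hqC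
      refine ⟨C, hkG, Twisted.F4.gen 1, by simp, _, mul_mem hpB hb, b', hb', ?_⟩
      rw [e, nd_gen hK]
      simp only [mul_assoc]
  · obtain ⟨b, hb, b', hb', rfl⟩ := DoubleCoset.mem_doubleCoset.1 hpC
    rcases hq with hqB | hqC
    · refine ⟨C, hkG, Twisted.F4.gen 0, by simp, _, hb, _, mul_mem hb' hqB, ?_⟩
      rw [e, nd_gen hK]
      simp only [mul_assoc]
    · obtain ⟨c, hc, c', hc', rfl⟩ := DoubleCoset.mem_doubleCoset.1 hqC
      obtain ⟨b₁, h1', b₂, h2', e1⟩ := cell_mul hK gen_pos (mul_mem hb' hc)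
      refine ⟨C, hkG, Twisted.F4.gen 0 * Twisted.F4.gen 1, by simp, _, mul_mem hb h1', _, mul_mem h2' hc', ?_⟩
      rw [nd_gen hK] at e1
      rw [e]
      calc b * (RG).n 0 * b' * (c * (RG).n 1 * c') = b * ((RG).n 0 * (b' * c) * (RG).n 1) * c' := by group
        _ = _ := by rw [e1]; group

variable (hodd : Odd (Bs hK (m := m)).index)
include hodd

theorem fiber_odd [Fintype (Cham hK (m := m))] (i : Fin 2) (d : Cham hK (m := m)) :
    open Classical in Odd (Finset.univ.filter fun c => pan hK i c = pan hK i d).card := by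
  classical
  set e := Subgroup.quotientEquivProdOfLE (Bs_le_Ps hK (m := m) i)
  have h1 : ∀ c, (e c).1 = pan hK i c := fun c => rfl
  have hcard : (Finset.univ.filter fun c => pan hK i c = pan hK i d).card =
      (Bs hK (m := m)).relIndex (Ps hK (m := m) i) := by
    rw [← Fintype.card_subtype, ← Nat.card_eq_fintype_card]
    refine Nat.card_congr ((e.subtypeEquiv (q := fun x => x.1 = pan hK i d) fun c => by rw [h1]).trans ?_)
    exact
      { toFun := fun x => x.1.2
        invFun := fun y => ⟨(pan hK i d, y), rfl⟩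
        left_inv := fun x => Subtype.ext (Prod.ext x.2.symm rfl)
        right_inv := fun y => rfl }
  rw [hcard]
  exact Odd.of_dvd_nat hodd (Subgroup.relIndex_dvd_index_of_le (Bs_le_Ps hK i))

theorem row_step [Fintype (Cham hK (m := m))] (i : Fin 2) (L : Finset (DihedralGroup 8)) :
    (fun c => if cC hK c ∈ L then (1 : ZMod 2) else 0) ᵥ* adj hK (m := m) i =
      fun d => if cC hK d ∈ nextL i L then (1 : ZMod 2) else 0 := by
  classical
  funext d
  obtain ⟨c₀, h0, hc0, hup⟩ := exists_lower hK i d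
  set S := Finset.univ.filter fun c => pan hK i c = pan hK i d with hS
  have hS0 : c₀ ∈ S := by simp [hS, h0]
  set v : ZMod 2 := if low i (cC hK d) * Twisted.F4.gen i ∈ L then 1 else 0
  have hrest : ∀ c ∈ S.erase c₀, (if cC hK c ∈ L then (1 : ZMod 2) else 0) = v := by
    intro c hc
    simp only [hS, Finset.mem_erase, Finset.mem_filter, Finset.mem_univ, true_and] at hc
    rw [(hup c hc.2).resolve_left hc.1]
  have hev : ((S.erase c₀).card : ZMod 2) = 0 := by
    rw [Finset.card_erase_of_mem hS0]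
    obtain ⟨k, hk⟩ := fiber_odd hK hodd i d
    rw [← hS] at hk
    rw [hk, Nat.add_sub_cancel, Nat.cast_mul, show ((2 : ℕ) : ZMod 2) = 0 from rfl, zero_mul]
  calc ((fun c => if cC hK c ∈ L then (1 : ZMod 2) else 0) ᵥ* adj hK (m := m) i) d
      = ∑ c ∈ S, if cC hK c ∈ L then (1 : ZMod 2) else 0 := by
        rw [Matrix.vecMul, dotProduct, hS, Finset.sum_filter]
        refine Finset.sum_congr rfl fun c _ => ?_
        simp [adj]
    _ = (if cC hK c₀ ∈ L then 1 else 0) + ∑ c ∈ S.erase c₀, v := by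
        rw [← Finset.add_sum_erase _ _ hS0, Finset.sum_congr rfl hrest]
    _ = _ := by rw [Finset.sum_const, nsmul_eq_mul, hev, zero_mul, add_zero, hc0]; simp [nextL]

theorem adjTwo_pow [Fintype (Cham hK (m := m))] (c d : Cham hK (m := m)) :
    (adjTwo hK (m := m) * adjTwo hK (m := m) * adjTwo hK (m := m) * adjTwo hK (m := m)) c d = 1 := by
  classical
  set base : Cham hK (m := m) := QuotientGroup.mk 1
  have hbase : ∀ c, cC hK c = 1 ↔ c = base := by
    intro c
    have hc1 : cC hK base = 1 := cD_eq hK 1 (b := 1) (b' := 1) (one_mem _) (one_mem _) (by simp [nd_one])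
    refine ⟨fun h => ?_, fun h => h ▸ hc1⟩
    induction c using QuotientGroup.induction_on with
    | H a =>
    obtain ⟨b, hb, b', hb', e⟩ := cD_spec hK a
    rw [cC_mk] at h
    rw [h, nd_one, mul_one] at e
    refine QuotientGroup.eq.2 ?_
    rw [mul_one, Bs, Subgroup.mem_subgroupOf, Subgroup.coe_inv, e]
    exact inv_mem (mul_mem hb hb')
  have hrow : ∀ L : Finset (DihedralGroup 8),
      (fun c => if cC hK c ∈ L then (1 : ZMod 2) else 0) ᵥ* adjTwo hK (m := m) =
      fun d => if cC hK d ∈ next2 L then (1 : ZMod 2) else 0 := fun L => by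
    rw [adjTwo, ← Matrix.vecMul_vecMul, row_step hK hodd, row_step hK hodd, next2]
  have hinv := inv_mul hK (inv_mul hK (inv_mul hK (adjTwo_inv hK (m := m)) (adjTwo_inv hK)) (adjTwo_inv hK))
    (adjTwo_inv hK (m := m))
  have hrow4 : Pi.single base (1 : ZMod 2) ᵥ*
      (adjTwo hK (m := m) * adjTwo hK (m := m) * adjTwo hK (m := m) * adjTwo hK (m := m)) = fun _ => 1 := by
    rw [show Pi.single base (1 : ZMod 2) =
      (fun c => if cC hK c ∈ ({1} : Finset (DihedralGroup 8)) then (1 : ZMod 2) else 0) by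
        funext c; simp [hbase, Pi.single_apply]]
    generalize hA : adjTwo hK (m := m) = A at hrow ⊢
    rw [← Matrix.vecMul_vecMul, ← Matrix.vecMul_vecMul, ← Matrix.vecMul_vecMul, hrow, hrow, hrow, hrow, next_four]
    simp
  induction c using QuotientGroup.induction_on with
  | H a =>
  rw [← hinv a⁻¹, MulAction.Quotient.smul_mk, smul_eq_mul, inv_mul_cancel]
  have h := congrFun hrow4 (a⁻¹ • d)
  rwa [Matrix.single_one_vecMul] at h

theorem exists_short {g : GL chevF4.Idx K} (hg : g ∈ (RG).G) : Short hK (m := m) g := by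
  classical
  by_contra hcon
  haveI : Finite ↥(RG).G := inferInstance
  haveI := Fintype.ofFinite (Cham hK (m := m))
  set J : Matrix (Cham hK (m := m)) (Cham hK (m := m)) (ZMod 2) := Matrix.of fun _ _ => 1 with hJ
  obtain ⟨M, hM⟩ : ∃ M, M = adjTwo hK (m := m) := ⟨_, rfl⟩
  have hM4 : M * M * (M * M) = J := by
    rw [← mul_assoc, hM]
    ext c d
    exact adjTwo_pow hK hodd c d
  -- the all-one matrix absorbs
  have hsum : ∀ i c, ∑ d, adj hK (m := m) i c d = 1 := by
    intro i c
    obtain ⟨k, hk⟩ := fiber_odd hK hodd i c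
    simp only [adj, Matrix.of_apply, eq_comm (a := pan hK i c)]
    rw [Finset.sum_boole, hk]
    push_cast
    rw [show (2 : ZMod 2) = 0 from rfl, zero_mul, zero_add]
  have hAJ : ∀ i, adj hK (m := m) i * J = J := fun i => by
    ext c d
    simp [hJ, Matrix.mul_apply, hsum i c]
  have hJA : ∀ i, J * adj hK (m := m) i = J := fun i => by
    ext c d
    simp only [hJ, Matrix.mul_apply, Matrix.of_apply, one_mul]
    refine Eq.trans (Finset.sum_congr rfl fun e _ => ?_) (hsum i d)
    simp [adj, eq_comm]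
  have hN : (Fintype.card (Cham hK (m := m)) : ZMod 2) = 1 := by
    obtain ⟨k, hk⟩ := hodd
    rw [← Nat.card_eq_fintype_card, show Nat.card (Cham hK (m := m)) = 2 * k + 1 from hk]
    push_cast
    rw [show (2 : ZMod 2) = 0 from rfl, zero_mul, zero_add]
  have hJJ : J * J = J := by
    ext c d
    simpa [hJ, Matrix.mul_apply] using hN
  have hnil : (M + J) * (M + J) * ((M + J) * (M + J)) = 0 := by
    have hMJ : M * J = J := by rw [hM, adjTwo, mul_assoc, hAJ, hAJ]
    have hJM : J * M = J := by rw [hM, adjTwo, ← mul_assoc, hJA, hJA]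
    have h2 : (M + J) * (M + J) = M * M + J := by
      rw [add_mul, mul_add, mul_add, hMJ, hJM, hJJ, CharTwo.add_self_eq_zero J, add_zero]
    rw [h2, add_mul (M * M) J, mul_add, mul_add, hM4, mul_assoc M M J, hMJ, hMJ, ← mul_assoc J M M, hJM, hJM,
      hJJ, CharTwo.add_self_eq_zero J, add_zero]
  -- the trace
  set π : Matrix (Cham hK (m := m)) (Cham hK (m := m)) (ZMod 2) :=
    Matrix.of fun c d => if c = (⟨g, hg⟩ : ↥(RG).G) • d then 1 else 0 with hπ
  have hinvMJ : ∀ (h : ↥(RG).G) c d, (M + J) (h • c) (h • d) = (M + J) c d := fun h c d => by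
    rw [Matrix.add_apply, Matrix.add_apply, hM, adjTwo_inv]
    simp [hJ]
  have hcomm : Commute (M + J) π := by
    ext c d
    rw [Matrix.mul_apply, Matrix.mul_apply, Finset.sum_eq_single ((⟨g, hg⟩ : ↥(RG).G) • d),
      Finset.sum_eq_single ((⟨g, hg⟩ : ↥(RG).G)⁻¹ • c)]
    · rw [← hinvMJ ⟨g, hg⟩ ((⟨g, hg⟩ : ↥(RG).G)⁻¹ • c) d]
      simp [hπ]
    · intro b _ hb
      rw [hπ, Matrix.of_apply, if_neg (fun e => hb (by rw [e, inv_smul_smul])), zero_mul]
    · simp
    · intro b _ hb
      rw [hπ, Matrix.of_apply, if_neg hb, mul_zero]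
    · simp
  have hz : Matrix.trace ((M + J) * π) = 0 :=
    (Matrix.isNilpotent_trace_of_isNilpotent ⟨4, by
      rw [hcomm.mul_pow, show (M + J) ^ 4 = (M + J) * (M + J) * ((M + J) * (M + J)) by
        rw [pow_succ, pow_succ, pow_succ, pow_one, mul_assoc], hnil, zero_mul]⟩).eq_zero
  have htr : ∀ c, ((M + J) * π) c c = 1 := by
    intro c
    rw [Matrix.mul_apply, Finset.sum_eq_single ((⟨g, hg⟩ : ↥(RG).G) • c)]
    · simp only [hπ, Matrix.of_apply, if_true, mul_one, Matrix.add_apply, hJ]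
      rw [hM, adjTwo, Matrix.mul_apply, Finset.sum_eq_zero, zero_add]
      intro e _
      simp only [adj, Matrix.of_apply]
      by_cases h0 : pan hK 0 c = pan hK 0 e
      · by_cases h1 : pan hK 1 e = pan hK 1 ((⟨g, hg⟩ : ↥(RG).G) • c)
        · exact absurd (short_of_panels hK hg h0 h1) hcon
        · rw [if_neg h1, mul_zero]
      · rw [if_neg h0, zero_mul]
    · intro b _ hb
      rw [hπ, Matrix.of_apply, if_neg hb, mul_zero]
    · simp
  rw [Matrix.trace] at hz
  simp only [Matrix.diag_apply, htr, Finset.sum_const, Finset.card_univ, nsmul_eq_mul, mul_one, hN] at hz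
  exact one_ne_zero hz

end Cfsg.Agent.ReeLargeThompson
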