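/-
Certificates for the Tits group: generated tables (orbits of twisted conjugation on the Sylow 2-subgroup
of ²F₄(2) for four cells, and for each orbit outside the trivial ones two conjugators).
-/
import Cfsg.Agent.EqLemmas

set_option autoImplicit false
set_option maxRecDepth 100000

namespace Cfsg.Agent.ReeLargeThompson.TitsCert

/-- Letters 0-3: the generators, 4-15: a polycyclic series, 16-17: the two Weyl elements. -/
def awL : List (List (Fin 4)) :=
  [
    [0], [1], [2], [3], [2], [2, 2], [0], [0, 1, 0, 2, 0, 1, 0],
    [2, 2, 2, 3, 2, 2, 0, 1, 0, 2, 0, 1, 0, 2, 2, 2, 2, 2, 2, 3, 3, 3, 2, 2, 2, 2, 2, 2, 2, 2, 2],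
    [2, 2, 2, 3, 2, 2, 0, 2, 2, 2, 2, 2, 2, 3, 3, 3, 2, 2, 2, 2, 2, 2, 2, 2, 2],
    [0, 1, 0, 2, 2, 2, 3, 2, 2, 0, 1, 0, 2, 0, 1, 0, 2, 2, 2, 2, 2, 2, 3, 3, 3, 2, 2, 2, 2, 2, 2, 2, 2, 2, 0, 1, 0],
    [0, 1, 0, 2, 2, 0, 1, 0],
    [0, 1, 0, 2, 2, 2, 3, 2, 2, 0, 2, 2, 2, 2, 2, 2, 3, 3, 3, 2, 2, 2, 2, 2, 2, 2, 2, 2, 0, 1, 0],
    [2, 2, 2, 3, 2, 2, 0, 1, 0, 2, 2, 2, 3, 2, 2, 0, 2, 2, 2, 2, 2, 2, 3, 3, 3, 2, 2, 2, 2, 2, 2, 2, 2, 2, 0, 1, 0, 2, 2, 2, 2, 2, 2, 3, 3, 3, 2, 2, 2, 2, 2, 2, 2, 2, 2],
    [2, 2, 2, 3, 2, 2, 0, 1, 0, 2, 2, 0, 1, 0, 2, 2, 2, 2, 2, 2, 3, 3, 3, 2, 2, 2, 2, 2, 2, 2, 2, 2],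
    [0, 1, 0, 2, 2, 2, 3, 2, 2, 0, 1, 0, 2, 2, 0, 1, 0, 2, 2, 2, 2, 2, 2, 3, 3, 3, 2, 2, 2, 2, 2, 2, 2, 2, 2, 0, 1, 0],
    [0, 1, 0], [2, 2, 2, 3, 2, 2]]

/-- The matrices of the letters. -/
def aBL : List (List ℕ) :=
  [
    [
      1, 137438953474, 268435460, 8, 48, 32, 64, 2176, 528640, 3171840, 2114560, 2048, 4096, 24576,
      16384, 12681216, 8454144, 16908288, 137439215617, 524288, 3145728, 2097152, 12582912,
      8388608, 16777216, 100663296, 67108864, 402653192, 268435456, 1610612736, 1073741824,
      277025390592, 1662152343552, 1108101562368, 112201725640704, 74801150427136, 149602300854272,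
      137438953472, 274877906944, 1649267441664, 1099511627776, 6597069766656, 4398046511104,
      8796093022208, 299067162755072, 105553116266496, 70368744177664, 140737488355328,
      281474976710656, 562949953421312, 3377699720527872, 2251799813685248],
    [
      1, 262146, 134217732, 8, 16, 48, 64, 128, 256, 512, 1536, 2176, 4096, 8192, 24576, 32768,
      98304, 131072, 262144, 528640, 1057280, 3171840, 4227072, 12681216, 16908288, 33554432,
      100663296, 134217728, 402653192, 536870912, 1610612736, 2147483648, 4294967296, 12884901888,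
      17179869184, 51539607552, 68719476736, 137439215617, 277025390592, 554050781184,
      1662152343552, 2199023255552, 6597069766656, 8796093022208, 17592186044416, 37400575213568,
      112201725640704, 149602300854272, 299067162755072, 562949953421312, 1125899906842624,
      3377699720527872],
    [
      6442450945, 2, 6442450948, 17716740104, 16, 864, 448, 128, 768, 512, 1024, 47104, 12288,
      40960, 475136, 32768, 196608, 393216, 262144, 169345024, 38797312, 24253562882, 4194304,
      6467616768, 2164260866, 167772160, 603979780, 134217728, 104421392384, 22011707392,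
      44023414784, 6442450944, 4294967296, 8589934592, 17179869184, 103079215104, 68719476736,
      3161095929856, 824633720832, 2748779069440, 31885837205504, 2199023255552, 13194139533312,
      26388279066624, 17592186044416, 35184372088832, 1899956092796928, 985162418487296,
      281474976710656, 1688849860263936, 1125899906842624, 2251799813685248],
    [
      25165825, 2, 25165828, 69206024, 16, 32, 96, 128, 448, 864, 1024, 2048, 6144, 12288, 16384,
      47104, 81920, 196608, 475136, 524288, 1572864, 2097152, 4194304, 8388608, 25165824, 38797312,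
      77594624, 169345024, 268435456, 603979780, 1342177280, 2164260866, 6467616768, 8589934592,
      24253562882, 44023414784, 104421392384, 137438953472, 412316860416, 824633720832,
      1099511627776, 3161095929856, 5497558138880, 13194139533312, 31885837205504, 35184372088832,
      70368744177664, 211106232532992, 281474976710656, 985162418487296, 1899956092796928,
      2251799813685248],
    [
      6442450945, 2, 6442450948, 17716740104, 16, 864, 448, 128, 768, 512, 1024, 47104, 12288,
      40960, 475136, 32768, 196608, 393216, 262144, 169345024, 38797312, 24253562882, 4194304,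
      6467616768, 2164260866, 167772160, 603979780, 134217728, 104421392384, 22011707392,
      44023414784, 6442450944, 4294967296, 8589934592, 17179869184, 103079215104, 68719476736,
      3161095929856, 824633720832, 2748779069440, 31885837205504, 2199023255552, 13194139533312,
      26388279066624, 17592186044416, 35184372088832, 1899956092796928, 985162418487296,
      281474976710656, 1688849860263936, 1125899906842624, 2251799813685248],
    [
      4294967297, 2, 4294967300, 21474836488, 16, 928, 576, 128, 256, 512, 1024, 43008, 36864,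
      8192, 409600, 32768, 327680, 131072, 262144, 172490752, 135266304, 22030581766, 4194304,
      6450839554, 4311744512, 33554432, 19394461696, 134217728, 111937585152, 536870912,
      69793218560, 2147483648, 4294967296, 8589934592, 17179869184, 34359738368, 68719476736,
      2886218022912, 2473901162496, 549755813888, 27487790694400, 2199023255552, 21990232555520,
      8796093022208, 17592186044416, 35184372088832, 2040693581152256, 1266637395197952,
      281474976710656, 562949953421312, 1125899906842624, 2251799813685248],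
    [
      1, 137438953474, 268435460, 8, 48, 32, 64, 2176, 528640, 3171840, 2114560, 2048, 4096, 24576,
      16384, 12681216, 8454144, 16908288, 137439215617, 524288, 3145728, 2097152, 12582912,
      8388608, 16777216, 100663296, 67108864, 402653192, 268435456, 1610612736, 1073741824,
      277025390592, 1662152343552, 1108101562368, 112201725640704, 74801150427136, 149602300854272,
      137438953472, 274877906944, 1649267441664, 1099511627776, 6597069766656, 4398046511104,
      8796093022208, 299067162755072, 105553116266496, 70368744177664, 140737488355328,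
      281474976710656, 562949953421312, 3377699720527872, 2251799813685248],
    [
      1374389534721, 1374389534722, 71744207454212, 70369817919496, 2621520, 32, 526400, 8409216,
      335545600, 71744241172995, 67175424, 2048, 20480, 137459933184, 8404992, 1374389698560,
      65536, 274878038019, 4408784191488, 2621440, 1048576, 2097152, 20971520, 8388608,
      137455730688, 1107296268, 335544320, 175922531532800, 268435456, 35734664773632,
      71469329547264, 10737418240, 292474387955712, 4406636445696, 2814835666452480, 34359738368,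
      580610858942464, 137438953472, 1374389534720, 549755813888, 1099511627776, 10995116277760,
      4398046511104, 290271069732864, 17592186044416, 175921860444160, 70368744177664,
      140737488355328, 281474976710656, 2814749767106560, 1125899906842624, 2251799813685248],
    [
      18141941858305, 18141941858306, 1144076208439300, 1144076208439304, 17314087184,
      1144076209555491, 69256348736, 4295237760, 134250752, 512, 537003008, 18141941925888,
      2201174937600, 270336, 8804699750400, 32768, 549755879427, 131072, 4295229440,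
      598134393143296, 34360786958, 2392537572573184, 2151677952, 286010470563840, 8606711808,
      33554432, 35459317104640, 17314086912, 141837268418560, 69256347648, 1073741824,
      2201170739200, 4294967296, 8804682956800, 17179869184, 1143526452625408, 68719476736,
      4535485464576, 274877906944, 18141941858304, 1099511627776, 2199023255552, 285873023221760,
      8796093022208, 17592186044416, 598134325510144, 70368744177664, 2392537302040576,
      281474976710656, 562949953421312, 1125899906842624, 2251799813685248],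
    [
      1, 2199023255554, 68719476740, 2199023255560, 528, 17213690912, 134225984, 32896, 256, 512,
      17180132352, 4299294720, 266240, 8192, 2199023271937, 32768, 2147549184, 4295098368, 262144,
      68720001034, 537919488, 1170018886746112, 4299161600, 17875662274560, 549772591104,
      17213423616, 34426847232, 134217728, 567348268367872, 536870912, 1134697073606656,
      2147483648, 4294967296, 17600775979008, 17179869184, 34359738368, 68719476736, 8933531975680,
      17867063951360, 549755813888, 282574488338432, 2199023255552, 4398046511104, 8796093022208,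
      17592186044416, 1161084278931456, 2322168557862912, 140737488355328, 281474976710656,
      562949953421312, 1125899906842624, 2251799813685248],
    [
      281483566645249, 2, 4, 2568467752419336, 2568467756614802, 70369013137440, 140738563145792,
      281483570839680, 562984346714368, 1125968760537600, 35184372089863, 1236950599680,
      4672924487680, 9345848975360, 137438969856, 19791209594880, 274877972480, 549755944960,
      2199023517696, 277348352, 1091567616, 2097152, 8594128898, 8388608, 16777216, 36540776448,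
      67108864, 73148661760, 70369012613120, 536870912, 140738562097152, 2147483648, 4294967296,
      281483566645248, 17179869184, 562984313159680, 1125968626319360, 1236950581248,
      4672924418048, 9345848836096, 1099511627776, 19791209299968, 4398046511104, 8796093022208,
      17592186044416, 2568459162484736, 70368744177664, 140737488355328, 281474976710656,
      562949953421312, 1125899906842624, 2251799813685248],
    [
      1099511627777, 1099511627778, 70368744177668, 71468255805448, 2623504, 32, 2097216, 8405120,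
      335610112, 71469329678863, 268436480, 2048, 8392704, 137455738880, 16384, 1374389567491,
      65536, 1099511758848, 4406636707840, 524288, 1048576, 2097152, 137443147776, 8388608,
      16777216, 70643655639040, 67108864, 176471750475776, 268435456, 140738025226240, 1073741824,
      4400193994752, 290275364700160, 8589934592, 2832359133020160, 34359738368, 2251868533161984,
      137438953472, 274877906944, 549755813888, 1099511627776, 283673999966208, 4398046511104,
      8796093022208, 17592186044416, 35184372088832, 70368744177664, 140737488355328,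
      281474976710656, 562949953421312, 1125899906842624, 2251799813685248],
    [
      1, 4398046511106, 145135534866436, 4398046511112, 70506251292688, 2097184, 268451904,
      1099528470656, 140737488355595, 2260630803579392, 1073742848, 8390656, 137438957568,
      4398046519297, 16384, 282026880040960, 1099511693312, 8590065664, 8796093284352, 524288,
      70506184179712, 2097152, 274882101248, 8388608, 1099528404992, 35184405643264,
      70368811286528, 565149110894592, 268435456, 2260596443578368, 1073741824, 281477124194304,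
      17596481011712, 8589934592, 1125917086711808, 2251834173423616, 68719476736, 137438953472,
      274877906944, 282024732524544, 1099511627776, 2199023255552, 4398046511104, 8796093022208,
      17592186044416, 35184372088832, 70368744177664, 140737488355328, 281474976710656,
      562949953421312, 1125899906842624, 2251799813685248],
    [
      1, 8796093022210, 571746046443524, 8, 1128099500531728, 2256199001063456, 562949953421385,
      17594333659264, 68719739136, 17179869696, 34359739392, 281749871396864, 8796093026305,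
      2199023263744, 4398046527488, 4295000064, 8590000128, 17592186175488, 262144,
      140874927833088, 35184373137408, 70368746274816, 549760008192, 1099520016384,
      281474993487872, 1128098963652608, 2256197927305216, 134217728, 268435456, 1125900443713536,
      2251800887427072, 17594333528064, 4294967296, 8589934592, 17179869184, 34359738368,
      68719476736, 137438953472, 281749854617600, 549755813888, 1099511627776, 2199023255552,
      4398046511104, 8796093022208, 17592186044416, 35184372088832, 70368744177664,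
      140737488355328, 281474976710656, 562949953421312, 1125899906842624, 2251799813685248],
    [
      17592186044417, 17592186044418, 1125899906842628, 1125899906842632, 17314119696,
      1143526452690989, 69256478784, 4295229568, 17179869440, 512, 68719477760, 18141941860355,
      2201170743296, 4294975488, 8804682973184, 32768, 17592186109952, 131072, 262144,
      598409203941376, 1126449663705088, 2393636815765504, 2199027449856, 285873031610368,
      8796109799424, 33554432, 562950020530176, 134217728, 2251800082120704, 536870912, 1073741824,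
      2147483648, 4294967296, 8589934592, 17179869184, 34359738368, 68719476736, 281612415664128,
      274877906944, 549755813888, 1099511627776, 2199023255552, 4398046511104, 8796093022208,
      17592186044416, 35184372088832, 70368744177664, 140737488355328, 281474976710656,
      562949953421312, 1125899906842624, 2251799813685248],
    [
      281474976710657, 2, 4, 2251799813685256, 2568459166679061, 70369021001760, 140738578874432,
      281483566645378, 562986460643584, 1125972921287168, 2251808403620864, 1236950583296,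
      4672924422144, 9345848844288, 1099511644160, 19791209332736, 4398046576640, 8796093153280,
      17592186306560, 70368744701952, 140737489403904, 2097152, 281474980904960, 8388608, 16777216,
      562949986975744, 67108864, 1125900041060352, 268435456, 536870912, 1073741824, 2147483648,
      4294967296, 8589934592, 17179869184, 34359738368, 68719476736, 137438953472, 274877906944,
      549755813888, 1099511627776, 2199023255552, 4398046511104, 8796093022208, 17592186044416,
      35184372088832, 70368744177664, 140737488355328, 281474976710656, 562949953421312,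
      1125899906842624, 2251799813685248],
    [
      1, 3, 12, 8, 32, 16, 64, 2048, 524288, 2097152, 1048576, 128, 4096, 16384, 8192, 8388608,
      4194304, 16777216, 137438953472, 256, 1024, 512, 65536, 32768, 131072, 67108864, 33554432,
      268435456, 134217728, 1073741824, 536870912, 274877906944, 1099511627776, 549755813888,
      70368744177664, 35184372088832, 140737488355328, 262144, 2147483648, 8589934592, 4294967296,
      4398046511104, 2199023255552, 8796093022208, 281474976710656, 34359738368, 17179869184,
      68719476736, 17592186044416, 562949953421312, 2251799813685248, 1125899906842624],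
    [
      1, 2, 4, 10, 16, 512, 256, 128, 64, 32, 1024, 32768, 8192, 4096, 262144, 2048, 131072, 65536,
      16384, 134217728, 33554432, 17179869184, 4194304, 4294967296, 2147483648, 1048576, 536870912,
      524288, 68719476736, 67108864, 34359738368, 16777216, 8388608, 8589934592, 2097152,
      1073741824, 268435456, 2199023255552, 549755813888, 274877906944, 17592186044416,
      137438953472, 8796093022208, 4398046511104, 1099511627776, 35184372088832, 1125899906842624,
      562949953421312, 281474976710656, 140737488355328, 70368744177664, 2251799813685248]]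

/-- Squares of the series elements. -/
def sqL : List (List ℕ) := [
    [5], [], [], [11], [14], [], [15], [], [], [], [], []]

/-- Commutators `(i, j, t)` of the series elements. -/
def cmL : List (ℕ × ℕ × List ℕ) := [
    (0, 1, []), (0, 2, [7, 8, 9, 12, 13, 14]), (0, 3, [8, 10, 12, 13]), (0, 4, [9]), (0, 5, []),
    (0, 6, []), (0, 7, [12, 13, 14]), (0, 8, [13, 15]), (0, 9, [14]), (0, 10, []), (0, 11, []),
    (1, 2, [8, 9, 10, 11, 12, 14, 15]), (1, 3, [9, 14, 15]), (1, 4, []), (1, 5, []), (1, 6, []),
    (1, 7, [13, 14, 15]), (1, 8, [14]), (1, 9, []), (1, 10, []), (1, 11, []), (2, 3, []),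
    (2, 4, [11, 12, 15]), (2, 5, [12, 13]), (2, 6, [11]), (2, 7, []), (2, 8, []), (2, 9, []),
    (2, 10, [15]), (2, 11, []), (3, 4, []), (3, 5, [13, 14]), (3, 6, [12]), (3, 7, []), (3, 8, []),
    (3, 9, [15]), (3, 10, []), (3, 11, []), (4, 5, []), (4, 6, [13]), (4, 7, []), (4, 8, [15]),
    (4, 9, []), (4, 10, []), (4, 11, []), (5, 6, [14]), (5, 7, [15]), (5, 8, []), (5, 9, []),
    (5, 10, []), (5, 11, []), (6, 7, []), (6, 8, []), (6, 9, []), (6, 10, []), (6, 11, []),
    (7, 8, []), (7, 9, []), (7, 10, []), (7, 11, []), (8, 9, []), (8, 10, []), (8, 11, []),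
    (9, 10, []), (9, 11, []), (10, 11, [])]

/-- The root elements in the series. -/
def rootZ : List (List (List ℕ)) := [
    [[], [6]], [[], [7], [11], [7, 11]], [[], [12]], [[], [10], [15], [10, 15]], [[], [13]],
    [[], [8], [14], [8, 14]], [[], [9]], [[], [4], [5], [4, 5]]]

/-- Orbit representatives by level, cell []. -/
def repOne : List (List (List ℕ)) := [
    [
      []],
    [
      [], [4]],
    [
      [], [5], [4], [4, 5]],
    [
      [], [6], [5], [5, 6], [4], [4, 6], [4, 5], [4, 5, 6]],
    [
      [], [7], [6], [5], [5, 7], [5, 6], [4], [4, 6], [4, 5], [4, 5, 6]],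
    [
      [], [8], [7], [6], [5], [5, 7], [5, 6], [4], [4, 6], [4, 5], [4, 5, 6]],
    [
      [], [9], [8], [7], [6], [6, 9], [5], [5, 7], [5, 6], [4], [4, 6], [4, 5], [4, 5, 6]],
    [
      [], [10], [9], [9, 10], [8], [8, 10], [7], [7, 10], [6], [6, 10], [6, 9], [6, 9, 10], [5],
      [5, 10], [5, 7], [5, 7, 10], [5, 6], [5, 6, 10], [4], [4, 10], [4, 6], [4, 6, 10], [4, 5],
      [4, 5, 10], [4, 5, 6], [4, 5, 6, 10]],
    [
      [], [11], [10], [9], [9, 11], [9, 10], [8], [8, 10], [8, 10, 11], [7], [7, 11], [7, 10], [6],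
      [6, 10], [6, 9], [6, 9, 10], [5], [5, 11], [5, 10], [5, 10, 11], [5, 7], [5, 7, 10],
      [5, 7, 10, 11], [5, 6], [5, 6, 10], [4], [4, 11], [4, 10], [4, 10, 11], [4, 6], [4, 6, 10],
      [4, 5], [4, 5, 11], [4, 5, 10], [4, 5, 10, 11], [4, 5, 6], [4, 5, 6, 10]],
    [
      [], [12], [11], [10], [9], [9, 11], [9, 10], [8], [8, 12], [8, 10], [8, 10, 11], [7],
      [7, 11], [7, 10], [6], [6, 10], [6, 9], [6, 9, 10], [5], [5, 12], [5, 11], [5, 10],
      [5, 10, 12], [5, 10, 11], [5, 7], [5, 7, 10], [5, 7, 10, 11], [5, 6], [5, 6, 10], [4],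
      [4, 11], [4, 10], [4, 10, 11], [4, 6], [4, 6, 10], [4, 5], [4, 5, 11], [4, 5, 10],
      [4, 5, 10, 11], [4, 5, 6], [4, 5, 6, 10]],
    [
      [], [13], [12], [11], [10], [9], [9, 11], [9, 10], [8], [8, 12], [8, 10], [8, 10, 11], [7],
      [7, 11], [7, 10], [6], [6, 10], [6, 9], [6, 9, 10], [6, 9, 10, 13], [5], [5, 12], [5, 11],
      [5, 10], [5, 10, 12], [5, 10, 11], [5, 7], [5, 7, 10], [5, 7, 10, 11], [5, 6], [5, 6, 10],
      [4], [4, 11], [4, 10], [4, 10, 11], [4, 6], [4, 6, 10], [4, 5], [4, 5, 11], [4, 5, 10],
      [4, 5, 10, 11], [4, 5, 6], [4, 5, 6, 10]],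
    [
      [], [14], [13], [12], [11], [11, 14], [10], [9], [9, 11], [9, 10], [8], [8, 14], [8, 12],
      [8, 10], [8, 10, 11], [7], [7, 14], [7, 11], [7, 11, 14], [7, 10], [7, 10, 14], [6], [6, 14],
      [6, 10], [6, 9], [6, 9, 14], [6, 9, 10], [6, 9, 10, 14], [6, 9, 10, 13], [6, 9, 10, 13, 14],
      [5], [5, 12], [5, 11], [5, 10], [5, 10, 12], [5, 10, 11], [5, 7], [5, 7, 10], [5, 7, 10, 11],
      [5, 6], [5, 6, 10], [4], [4, 11], [4, 10], [4, 10, 11], [4, 6], [4, 6, 10], [4, 5],
      [4, 5, 11], [4, 5, 10], [4, 5, 10, 11], [4, 5, 6], [4, 5, 6, 10]],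
    [
      [], [15], [14], [13], [12], [11], [11, 14], [10], [10, 15], [9], [9, 11], [9, 10], [8],
      [8, 14], [8, 12], [8, 10], [8, 10, 11], [7], [7, 14], [7, 11], [7, 11, 14], [7, 10],
      [7, 10, 14], [6], [6, 14], [6, 10], [6, 9], [6, 9, 14], [6, 9, 10], [6, 9, 10, 14],
      [6, 9, 10, 13], [6, 9, 10, 13, 14], [5], [5, 15], [5, 12], [5, 11], [5, 10], [5, 10, 12],
      [5, 10, 12, 15], [5, 10, 11], [5, 7], [5, 7, 10], [5, 7, 10, 11], [5, 6], [5, 6, 10], [4],
      [4, 15], [4, 11], [4, 10], [4, 10, 15], [4, 10, 11], [4, 6], [4, 6, 10], [4, 5], [4, 5, 15],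
      [4, 5, 11], [4, 5, 10], [4, 5, 10, 15], [4, 5, 10, 11], [4, 5, 6], [4, 5, 6, 10]]]

/-- Moves of the children, cell []. -/
def moveOne : List (List (ℕ × List ℕ × List ℕ × List ℕ)) := [
    [
      (0, [], [], []), (1, [], [], [])],
    [
      (0, [], [], []), (1, [], [], []), (2, [], [], []), (3, [], [], [])],
    [
      (0, [], [], []), (1, [], [], []), (2, [], [], []), (3, [], [], []), (4, [], [], []),
      (5, [], [], []), (6, [], [], []), (7, [], [], [])],
    [
      (0, [], [], []), (1, [], [], []), (2, [], [], []), (2, [4, 5], [4, 5], [8, 12]),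
      (3, [], [], []), (4, [], [], []), (5, [], [], []), (5, [4, 5], [4, 5], [8, 12]),
      (6, [], [], []), (6, [6], [6], [9, 10, 11, 12, 13, 14, 15]), (7, [], [], []),
      (7, [6], [6], [9, 10, 14]), (8, [], [], []), (8, [6], [6], [8, 9, 12, 13, 15]),
      (9, [], [], []), (9, [6], [6], [8, 9, 11, 12, 15])],
    [
      (0, [], [], []), (1, [], [], []), (2, [], [], []), (2, [4, 5], [4, 5], [10, 12]),
      (3, [], [], []), (3, [5], [5], [9, 10, 11, 12, 13]), (4, [], [], []), (4, [6], [6], [9, 10]),
      (5, [], [], []), (5, [6], [6], [9, 10, 12, 13, 14, 15]), (6, [], [], []),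
      (6, [6], [6], [9, 10, 13, 15]), (7, [], [], []), (7, [7, 11], [7, 11], [9, 10, 12, 13, 14]),
      (8, [], [], []), (8, [7, 11], [7, 11], [9, 10, 12, 14]), (9, [], [], []),
      (9, [7, 11], [7, 11], [10, 12, 13, 15]), (10, [], [], []), (10, [7, 11], [7, 11], [10, 13])],
    [
      (0, [], [], []), (1, [], [], []), (2, [], [], []), (2, [4, 5], [4, 5], []), (3, [], [], []),
      (3, [5], [5], [14, 15]), (4, [], [], []), (5, [], [], []), (6, [], [], []),
      (6, [7, 11], [7, 11], [13]), (7, [], [], []), (7, [7, 11], [7, 11], [14, 15]),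
      (8, [], [], []), (8, [7, 11], [7, 11], [12, 15]), (9, [], [], []), (9, [8, 14], [8, 14], []),
      (10, [], [], []), (10, [8, 14], [8, 14], [11, 13]), (11, [], [], []),
      (11, [8, 14], [8, 14], []), (12, [], [], []), (12, [8, 14], [8, 14], [11, 13])],
    [
      (0, [], [], []), (1, [], [], []), (2, [], [], []), (3, [], [], []), (4, [], [], []),
      (5, [], [], []), (6, [], [], []), (7, [], [], []), (8, [], [], []), (9, [], [], []),
      (10, [], [], []), (11, [], [], []), (12, [], [], []), (13, [], [], []), (14, [], [], []),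
      (15, [], [], []), (16, [], [], []), (17, [], [], []), (18, [], [], []), (19, [], [], []),
      (20, [], [], []), (21, [], [], []), (22, [], [], []), (23, [], [], []), (24, [], [], []),
      (25, [], [], [])],
    [
      (0, [], [], []), (1, [], [], []), (2, [], [], []), (2, [6], [6], []), (3, [], [], []),
      (4, [], [], []), (5, [], [], []), (5, [6], [6], [12, 13]), (6, [], [], []),
      (6, [6], [6], [12, 15]), (7, [], [], []), (8, [], [], []), (9, [], [], []), (10, [], [], []),
      (11, [], [], []), (11, [6], [6], []), (12, [], [], []), (12, [10, 15], [10, 15], []),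
      (13, [], [], []), (13, [10, 15], [10, 15], []), (14, [], [], []),
      (14, [10, 15], [10, 15], [14, 15]), (15, [], [], []), (15, [10, 15], [10, 15], [14, 15]),
      (16, [], [], []), (17, [], [], []), (18, [], [], []), (19, [], [], []), (20, [], [], []),
      (20, [4, 5, 6, 7, 8, 9, 12, 13, 14], [4, 5, 6, 7, 8, 9, 12, 13, 14], [13, 14, 15]),
      (21, [], [], []), (22, [], [], []), (23, [], [], []), (23, [10, 15], [10, 15], []),
      (24, [], [], []), (24, [10, 15], [10, 15], []), (25, [], [], []), (26, [], [], []),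
      (27, [], [], []), (28, [], [], []), (29, [], [], []), (29, [10, 15], [10, 15], []),
      (30, [], [], []), (30, [10, 15], [10, 15], []), (31, [], [], []), (32, [], [], []),
      (33, [], [], []), (34, [], [], []), (35, [], [], []), (35, [10, 15], [10, 15], []),
      (36, [], [], []), (36, [10, 15], [10, 15], [])],
    [
      (0, [], [], []), (1, [], [], []), (2, [], [], []), (2, [4, 5], [4, 5], [13]),
      (3, [], [], []), (3, [7, 11], [7, 11], []), (4, [], [], []), (4, [6], [6], [13]),
      (5, [], [], []), (5, [6], [6], [13]), (6, [], [], []), (6, [7, 11], [7, 11], [13, 14, 15]),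
      (7, [], [], []), (8, [], [], []), (9, [], [], []), (9, [7, 11], [7, 11], []),
      (10, [], [], []), (10, [7, 11], [7, 11], []), (11, [], [], []), (11, [10, 15], [10, 15], []),
      (12, [], [], []), (12, [10, 15], [10, 15], []), (13, [], [], []),
      (13, [10, 15], [10, 15], []), (14, [], [], []), (14, [9], [9], [13]), (15, [], [], []),
      (15, [9], [9], [13, 14]), (16, [], [], []), (16, [9], [9], [13]), (17, [], [], []),
      (17, [9], [9], [13, 14]), (18, [], [], []), (19, [], [], []), (20, [], [], []),
      (20, [4, 5], [4, 5], [13]), (21, [], [], []), (22, [], [], []), (23, [], [], []),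
      (23, [4, 5], [4, 5], [13]), (24, [], [], []), (24, [10, 15], [10, 15], []), (25, [], [], []),
      (25, [10, 15], [10, 15], []), (26, [], [], []), (26, [10, 15], [10, 15], []),
      (27, [], [], []), (27, [9], [9], [13]), (28, [], [], []), (28, [9], [9], [13, 14]),
      (29, [], [], []), (29, [11], [11], [14, 15]), (30, [], [], []), (30, [11], [11], [14, 15]),
      (31, [], [], []), (31, [11], [11], [14, 15]), (32, [], [], []), (32, [11], [11], [14, 15]),
      (33, [], [], []), (33, [11], [11], [14]), (34, [], [], []), (34, [11], [11], [14]),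
      (35, [], [], []), (35, [11], [11], [13, 14]), (36, [], [], []), (36, [11], [11], [13, 14]),
      (37, [], [], []), (37, [11], [11], [13, 14]), (38, [], [], []), (38, [11], [11], [13, 14]),
      (39, [], [], []), (39, [11], [11], [13, 14, 15]), (40, [], [], []),
      (40, [11], [11], [13, 14, 15])],
    [
      (0, [], [], []), (1, [], [], []), (2, [], [], []), (2, [4, 5], [4, 5], [15]),
      (3, [], [], []), (3, [5], [5], [14, 15]), (4, [], [], []), (4, [8, 14], [8, 14], []),
      (5, [], [], []), (5, [7, 11], [7, 11], [14]), (6, [], [], []), (6, [7, 11], [7, 11], [14]),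
      (7, [], [], []), (7, [8, 14], [8, 14], []), (8, [], [], []), (8, [10, 15], [10, 15], []),
      (9, [], [], []), (9, [10, 15], [10, 15], []), (10, [], [], []), (10, [10, 15], [10, 15], []),
      (11, [], [], []), (11, [10, 15], [10, 15], []), (12, [], [], []), (12, [9], [9], [14, 15]),
      (13, [], [], []), (13, [9], [9], [14]), (14, [], [], []), (14, [9], [9], [15]),
      (15, [], [], []), (15, [8, 9, 10, 13, 15], [8, 9, 10, 13, 15], []), (16, [], [], []),
      (16, [7, 9, 11, 13, 14, 15], [7, 9, 11, 13, 14, 15], [14, 15]), (17, [], [], []),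
      (17, [7, 11], [7, 11], [14]), (18, [], [], []), (19, [], [], []), (20, [], [], []),
      (20, [11], [11], [14, 15]), (21, [], [], []), (21, [11], [11], [14, 15]), (22, [], [], []),
      (22, [11], [11], [14, 15]), (23, [], [], []), (23, [11], [11], [14, 15]), (24, [], [], []),
      (24, [11], [11], [14, 15]), (25, [], [], []), (25, [11], [11], [14, 15]), (26, [], [], []),
      (26, [11], [11], [14]), (27, [], [], []), (27, [11], [11], [14]), (28, [], [], []),
      (28, [11], [11], [14]), (29, [], [], []), (29, [11], [11], [14]), (30, [], [], []),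
      (30, [11], [11], [14]), (31, [], [], []), (31, [12], [12], [14, 15]), (32, [], [], []),
      (32, [12], [12], [14, 15]), (33, [], [], []), (33, [12], [12], [14, 15]), (34, [], [], []),
      (34, [12], [12], [14, 15]), (35, [], [], []), (35, [12], [12], [14]), (36, [], [], []),
      (36, [12], [12], [14]), (37, [], [], []), (37, [12], [12], [15]), (38, [], [], []),
      (38, [12], [12], [15]), (39, [], [], []), (39, [12], [12], [15]), (40, [], [], []),
      (40, [12], [12], [15]), (41, [], [], []), (41, [12], [12], [15]), (42, [], [], []),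
      (42, [12], [12], [15])],
    [
      (0, [], [], []), (1, [], [], []), (2, [], [], []), (2, [4, 5], [4, 5], []), (3, [], [], []),
      (3, [5], [5], []), (4, [], [], []), (5, [], [], []), (6, [], [], []), (6, [9], [9], []),
      (7, [], [], []), (7, [10, 15], [10, 15], []), (8, [], [], []), (8, [10, 15], [10, 15], []),
      (9, [], [], []), (9, [10, 15], [10, 15], []), (10, [], [], []), (11, [], [], []),
      (12, [], [], []), (12, [5], [5], []), (13, [], [], []), (13, [9], [9], []), (14, [], [], []),
      (14, [9], [9], [15]), (15, [], [], []), (16, [], [], []), (17, [], [], []), (18, [], [], []),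
      (19, [], [], []), (20, [], [], []), (21, [], [], []), (22, [], [], []), (23, [], [], []),
      (23, [8, 9, 10, 13, 15], [8, 9, 10, 13, 15], []), (24, [], [], []), (25, [], [], []),
      (26, [], [], []), (27, [], [], []), (28, [], [], []), (29, [], [], []), (30, [], [], []),
      (30, [12], [12], []), (31, [], [], []), (31, [12], [12], []), (32, [], [], []),
      (32, [12], [12], []), (33, [], [], []), (33, [12], [12], []), (34, [], [], []),
      (34, [12], [12], []), (35, [], [], []), (35, [12], [12], []), (36, [], [], []),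
      (36, [12], [12], []), (37, [], [], []), (37, [12], [12], []), (38, [], [], []),
      (38, [12], [12], []), (39, [], [], []), (39, [12], [12], [15]), (40, [], [], []),
      (40, [12], [12], [15]), (41, [], [], []), (41, [13], [13], []), (42, [], [], []),
      (42, [13], [13], []), (43, [], [], []), (43, [13], [13], []), (44, [], [], []),
      (44, [13], [13], []), (45, [], [], []), (45, [13], [13], [15]), (46, [], [], []),
      (46, [13], [13], [15]), (47, [], [], []), (47, [13], [13], []), (48, [], [], []),
      (48, [13], [13], []), (49, [], [], []), (49, [13], [13], []), (50, [], [], []),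
      (50, [13], [13], []), (51, [], [], []), (51, [13], [13], [15]), (52, [], [], []),
      (52, [13], [13], [15])],
    [
      (0, [], [], []), (1, [], [], []), (2, [], [], []), (2, [6], [6], []), (3, [], [], []),
      (3, [7, 11], [7, 11], []), (4, [], [], []), (4, [8, 14], [8, 14], []), (5, [], [], []),
      (5, [9], [9], []), (6, [], [], []), (6, [9], [9], []), (7, [], [], []), (8, [], [], []),
      (9, [], [], []), (9, [11], [11], []), (10, [], [], []), (10, [11], [11], []),
      (11, [], [], []), (11, [11], [11], []), (12, [], [], []), (12, [12], [12], []),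
      (13, [], [], []), (13, [12], [12], []), (14, [], [], []), (14, [12], [12], []),
      (15, [], [], []), (15, [12], [12], []), (16, [], [], []), (16, [12], [12], []),
      (17, [], [], []), (17, [13], [13], []), (18, [], [], []), (18, [13], [13], []),
      (19, [], [], []), (19, [13], [13], []), (20, [], [], []), (20, [13], [13], []),
      (21, [], [], []), (21, [13], [13], []), (22, [], [], []), (22, [13], [13], []),
      (23, [], [], []), (23, [14], [14], []), (24, [], [], []), (24, [14], [14], []),
      (25, [], [], []), (25, [14], [14], []), (26, [], [], []), (26, [14], [14], []),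
      (27, [], [], []), (27, [14], [14], []), (28, [], [], []), (28, [14], [14], []),
      (29, [], [], []), (29, [14], [14], []), (30, [], [], []), (30, [14], [14], []),
      (31, [], [], []), (31, [14], [14], []), (32, [], [], []), (33, [], [], []), (34, [], [], []),
      (34, [8, 14], [8, 14], []), (35, [], [], []), (35, [9], [9], []), (36, [], [], []),
      (36, [8, 11, 12, 14, 15], [8, 11, 12, 14, 15], []), (37, [], [], []), (38, [], [], []),
      (39, [], [], []), (39, [9, 12], [9, 12], []), (40, [], [], []), (40, [13], [13], []),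
      (41, [], [], []), (41, [13], [13], []), (42, [], [], []), (42, [13], [13], []),
      (43, [], [], []), (43, [14], [14], []), (44, [], [], []), (44, [14], [14], []),
      (45, [], [], []), (46, [], [], []), (47, [], [], []), (47, [9], [9], []), (48, [], [], []),
      (49, [], [], []), (50, [], [], []), (50, [9, 13], [9, 13], []), (51, [], [], []),
      (51, [14], [14], []), (52, [], [], []), (52, [14], [14], []), (53, [], [], []),
      (54, [], [], []), (55, [], [], []), (55, [9], [9], []), (56, [], [], []), (57, [], [], []),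
      (58, [], [], []), (58, [9, 13], [9, 13], []), (59, [], [], []), (59, [14], [14], []),
      (60, [], [], []), (60, [14], [14], [])]]

/-- Conjugators of the representatives, cell []. -/
def leafOne : List (List (Fin 4) × List (Fin 4)) := [
    ([], []), ([], [0, 2, 2, 0, 2, 2, 1, 0, 2, 2, 0]), ([], [2, 2, 0, 2, 2, 1, 0, 2, 2]),
    ([2, 3, 2], [2, 0, 2, 0, 2, 3, 3, 1, 0, 2, 2, 2]), ([2], [0, 2, 1, 0, 2, 1, 0, 2, 2]),
    ([2, 3, 3], [1, 0, 2, 0, 2, 1, 3, 3, 0, 2, 2]),
    ([2, 3, 2], [2, 1, 0, 2, 0, 1, 3, 2, 0, 2, 2, 0]), ([], []), ([], []),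
    ([0, 2], [2, 2, 1, 0, 2, 0, 2, 0, 2, 2]),
    ([3, 2, 1, 3, 1, 3, 2, 0], [3, 2, 1, 0, 2, 1, 3, 1, 3, 1, 3, 3, 2, 2, 0, 2]), ([], []),
    ([], []), ([], []), ([], []), ([1, 3, 0], [2, 1, 3, 0, 2, 2, 0, 2, 3, 0, 2, 2]),
    ([], [0, 2, 0, 2, 2, 2, 1, 0, 2, 0]), ([], []), ([], []), ([], []), ([], []),
    ([0], [1, 0, 2, 0, 2, 2, 0, 2, 1, 0, 2]), ([0], [2, 0, 2, 2, 2, 0, 2, 2, 2]),
    ([2, 3, 3, 0, 2], [2, 2, 2, 0, 2, 0, 2, 2, 0, 2, 3]),
    ([2, 1, 3, 2, 1, 3, 3, 2], [2, 1, 0, 2, 3, 3, 1, 3, 1, 3, 1, 0, 2, 0, 2, 2]), ([], []),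
    ([3], [3, 2, 2, 0]), ([3, 3, 2], [3, 3, 0, 2, 1, 0, 2, 1, 0, 2, 2, 2]), ([], []), ([], []),
    ([], []), ([], []), ([0, 2, 1, 3, 3], [2, 0, 2, 1, 3, 3, 0, 2, 2]),
    ([0, 2, 1, 3, 2], [0, 1, 3, 2, 0, 2, 3, 0, 2, 2, 0, 2]),
    ([2, 3, 1, 3, 3, 1, 3, 2, 0], [3, 2, 2, 1, 0, 2, 1, 3, 1, 3, 0, 1, 3, 2]),
    ([], [1, 0, 2, 2, 0]), ([], []), ([], []), ([], []), ([], []), ([], []),
    ([], [2, 2, 2, 1, 0, 2, 2, 0]), ([2], [2, 2, 2, 0, 2, 2, 0, 2, 0]),
    ([2, 3, 2, 1, 3, 0, 2, 0], [3, 3, 1, 0, 2, 3, 1, 3, 0, 2, 2, 0, 2, 2, 2, 0]), ([], []),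
    ([], []), ([], []), ([], []), ([0], [2, 0, 2, 0, 2, 0, 2, 2, 0, 2]),
    ([0], [2, 1, 0, 2, 0, 2, 2, 2, 0]), ([], [2, 2, 2, 0, 2, 0, 2, 1, 0, 2, 2, 0]), ([], []),
    ([0, 1, 3, 1, 3, 0, 2, 0], [3, 1, 3, 3, 2, 0, 1, 3, 2, 1, 0, 2, 3]), ([], []), ([], []),
    ([], []), ([], [1, 0, 2, 1, 0, 2, 0, 2, 2, 2]), ([], [2, 2, 0, 2, 1, 0, 2, 0, 2, 2, 0, 2]),
    ([0], [0, 2, 1, 0, 2, 0, 2, 0, 2, 2, 0]), ([], []),
    ([0, 2, 3, 1, 3, 2], [2, 0, 2, 0, 2, 3, 1, 3, 3, 1, 3, 2])]

/-- Orbit representatives by level, cell [16]. -/
def repZero : List (List (List ℕ)) := [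
    [
      []],
    [
      []],
    [
      []],
    [
      [], [6]],
    [
      [], [7], [6]],
    [
      [], [7], [6]],
    [
      [], [7], [6]],
    [
      [], [10], [7], [7, 10], [6], [6, 10]],
    [
      [], [11], [10], [10, 11], [7], [7, 11], [7, 10], [7, 10, 11], [6], [6, 11], [6, 10],
      [6, 10, 11]],
    [
      [], [12], [11], [10], [10, 11], [10, 11, 12], [7], [7, 11], [7, 10], [7, 10, 11], [6],
      [6, 11], [6, 10], [6, 10, 11]],
    [
      [], [12], [11], [10], [10, 11], [10, 11, 13], [10, 11, 12], [7], [7, 11], [7, 10],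
      [7, 10, 11], [6], [6, 13], [6, 11], [6, 10], [6, 10, 11]],
    [
      [], [12], [11], [10], [10, 11], [10, 11, 13], [10, 11, 12], [7], [7, 11], [7, 10],
      [7, 10, 11], [6], [6, 13], [6, 11], [6, 10], [6, 10, 11]],
    [
      [], [15], [12], [12, 15], [11], [10], [10, 11], [10, 11, 15], [10, 11, 13], [10, 11, 13, 15],
      [10, 11, 12], [7], [7, 11], [7, 10], [7, 10, 11], [6], [6, 13], [6, 11], [6, 10], [6, 10, 11]]]

/-- Moves of the children, cell [16]. -/
def moveZero : List (List (ℕ × List ℕ × List ℕ × List ℕ)) := [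
    [
      (0, [], [], []), (0, [7, 11], [4, 5], [5, 7, 9, 11, 13])],
    [
      (0, [], [], []), (0, [11], [5], [11])],
    [
      (0, [], [], []), (1, [], [], [])],
    [
      (0, [], [], []), (1, [], [], []), (2, [], [], []),
      (2, [4, 5, 7, 8, 10, 11, 14], [4, 5, 7, 11], [9, 10, 13, 14])],
    [
      (0, [], [], []), (0, [10, 15], [8, 14], [10, 14, 15]), (1, [], [], []),
      (1, [10, 15], [8, 14], [10, 12, 14, 15]), (2, [], [], []),
      (2, [10, 15], [8, 14], [10, 11, 14, 15])],
    [
      (0, [], [], []), (0, [12], [9], [12]), (1, [], [], []), (1, [12], [9], [12]),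
      (2, [], [], []), (2, [12], [9], [12])],
    [
      (0, [], [], []), (1, [], [], []), (2, [], [], []), (3, [], [], []), (4, [], [], []),
      (5, [], [], [])],
    [
      (0, [], [], []), (1, [], [], []), (2, [], [], []), (3, [], [], []), (4, [], [], []),
      (5, [], [], []), (6, [], [], []), (7, [], [], []), (8, [], [], []), (9, [], [], []),
      (10, [], [], []), (11, [], [], [])],
    [
      (0, [], [], []), (1, [], [], []), (2, [], [], []),
      (2, [4, 5, 7, 8, 11, 14], [4, 5, 7, 8, 11, 14], [13, 15]), (3, [], [], []),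
      (3, [4, 5, 7, 8, 11, 14], [4, 5, 7, 8, 11, 14], [13, 14]), (4, [], [], []), (5, [], [], []),
      (6, [], [], []), (6, [8, 10, 13, 14, 15], [8, 10, 14, 15], [13, 15]), (7, [], [], []),
      (7, [8, 10, 13, 14, 15], [8, 10, 14, 15], [13, 15]), (8, [], [], []),
      (8, [8, 10, 13, 14, 15], [8, 10, 14, 15], [15]), (9, [], [], []),
      (9, [8, 10, 13, 14, 15], [8, 10, 14, 15], [15]), (10, [], [], []),
      (10, [9, 12], [9, 12], [13]), (11, [], [], []), (11, [9, 12], [9, 12], [13, 15]),
      (12, [], [], []), (12, [9, 12], [9, 12], [13, 14]), (13, [], [], []),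
      (13, [9, 12], [9, 12], [13, 14, 15])],
    [
      (0, [], [], []), (0, [5, 11, 13, 14, 15], [5, 11], [14, 15]), (1, [], [], []),
      (1, [5, 11, 13, 14, 15], [5, 11], [15]), (2, [], [], []),
      (2, [8, 10, 13, 14, 15], [8, 10, 14, 15], []), (3, [], [], []),
      (3, [5, 11, 13, 14, 15], [5, 11], [14, 15]), (4, [], [], []), (5, [], [], []),
      (6, [], [], []), (6, [4, 5, 7, 8, 11, 14], [4, 5, 7, 8, 11, 14], [14]), (7, [], [], []),
      (7, [9, 12], [9, 12], [14, 15]), (8, [], [], []), (8, [9, 12], [9, 12], [14]),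
      (9, [], [], []), (9, [9, 12], [9, 12], [15]), (10, [], [], []), (10, [9, 12], [9, 12], []),
      (11, [], [], []), (12, [], [], []), (13, [], [], []),
      (13, [5, 10, 11, 12, 13], [5, 8, 9, 11, 14], [14, 15]), (14, [], [], []),
      (14, [5, 10, 11, 12, 13], [5, 8, 9, 11, 14], [14, 15]), (15, [], [], []),
      (15, [8, 9, 10, 12, 13], [8, 9, 10, 12, 14, 15], [])],
    [
      (0, [], [], []), (0, [15], [14], [15]), (1, [], [], []), (1, [15], [14], [15]),
      (2, [], [], []), (2, [15], [14], [15]), (3, [], [], []), (3, [15], [14], [15]),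
      (4, [], [], []), (4, [15], [14], [15]), (5, [], [], []), (5, [15], [14], [15]),
      (6, [], [], []), (6, [15], [14], [15]), (7, [], [], []), (7, [15], [14], [15]),
      (8, [], [], []), (8, [15], [14], [15]), (9, [], [], []), (9, [15], [14], [15]),
      (10, [], [], []), (10, [15], [14], [15]), (11, [], [], []), (11, [15], [14], [15]),
      (12, [], [], []), (12, [15], [14], [15]), (13, [], [], []), (13, [15], [14], [15]),
      (14, [], [], []), (14, [15], [14], [15]), (15, [], [], []), (15, [15], [14], [15])],
    [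
      (0, [], [], []), (1, [], [], []), (2, [], [], []), (3, [], [], []), (4, [], [], []),
      (4, [9, 12], [9, 12], []), (5, [], [], []), (5, [9, 12, 15], [9, 12, 14], []),
      (6, [], [], []), (7, [], [], []), (8, [], [], []), (9, [], [], []), (10, [], [], []),
      (10, [8, 10, 13, 14, 15], [8, 10, 14, 15], []), (11, [], [], []), (11, [13], [13], []),
      (12, [], [], []), (12, [13], [13], []), (13, [], [], []), (13, [13], [13], []),
      (14, [], [], []), (14, [13], [13], []), (15, [], [], []), (15, [14, 15], [14, 15], []),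
      (16, [], [], []), (16, [14, 15], [14, 15], []), (17, [], [], []),
      (17, [14, 15], [14, 15], []), (18, [], [], []), (18, [14, 15], [14, 15], []),
      (19, [], [], []), (19, [14, 15], [14, 15], [])]]

/-- Conjugators of the representatives, cell [16]. -/
def leafZero : List (List (Fin 4) × List (Fin 4)) := [
    ([2, 1, 3, 3, 0, 2], [2, 0, 2, 0, 2, 0, 2, 0, 2, 1, 3, 0]),
    ([2, 3, 2, 1, 3, 3, 2], [2, 0, 2, 3, 3, 1, 3, 1, 3, 1, 0, 2, 0, 2, 2]),
    ([1, 3], [1, 3, 2, 2, 0]), ([1, 3, 3, 2], [1, 3, 3, 0, 2, 1, 0, 2, 1, 0, 2, 2, 2]),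
    ([0, 2, 3, 1, 3, 3], [2, 3, 1, 3, 2, 1, 3, 0, 2, 0, 2, 0, 2, 1, 3]), ([], []), ([], []),
    ([], []), ([], []), ([], []), ([], []), ([], []), ([], []),
    ([2, 3, 1, 3, 0, 2], [0, 2, 3, 3, 1, 3, 0, 2, 1, 3, 1, 0, 2, 3, 0, 2]),
    ([1, 3, 0, 1, 3, 2, 0], [3, 3, 0, 2, 2, 0, 1, 3, 2, 0, 1, 3, 1, 3, 2]), ([], []),
    ([2, 2], [2, 0, 2, 2, 2, 0, 2, 0, 2, 2, 2, 0]), ([2, 1, 0, 2], [2, 0, 2, 0, 2, 2, 0, 2, 0]),
    ([], []), ([], [])]

/-- Orbit representatives by level, cell [17]. -/
def repTwo : List (List (List ℕ)) := [
    [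
      []],
    [
      [], [4]],
    [
      [], [5], [4], [4, 5]],
    [
      [], [5], [4], [4, 5]],
    [
      [], [5], [4], [4, 5]],
    [
      [], [8], [5], [4], [4, 5]],
    [
      [], [9], [8], [8, 9], [5], [4], [4, 9], [4, 5], [4, 5, 9]],
    [
      [], [10], [9], [9, 10], [8], [8, 10], [8, 9], [8, 9, 10], [5], [5, 10], [4], [4, 10], [4, 9],
      [4, 9, 10], [4, 5], [4, 5, 10], [4, 5, 9], [4, 5, 9, 10]],
    [
      [], [10], [9], [9, 10], [8], [8, 10], [8, 9], [8, 9, 10], [5], [5, 10], [4], [4, 10], [4, 9],
      [4, 9, 10], [4, 5], [4, 5, 10], [4, 5, 9], [4, 5, 9, 10]],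
    [
      [], [10], [9], [9, 10], [8], [8, 10], [8, 9], [8, 9, 10], [5], [5, 10], [4], [4, 10], [4, 9],
      [4, 9, 10], [4, 5], [4, 5, 10], [4, 5, 9], [4, 5, 9, 10]],
    [
      [], [13], [10], [10, 13], [9], [9, 10], [8], [8, 10], [8, 9], [8, 9, 10], [5], [5, 10], [4],
      [4, 10], [4, 9], [4, 9, 10], [4, 5], [4, 5, 10], [4, 5, 9], [4, 5, 9, 10]],
    [
      [], [14], [13], [13, 14], [10], [10, 14], [10, 13], [10, 13, 14], [9], [9, 10], [8], [8, 10],
      [8, 9], [8, 9, 14], [8, 9, 10], [8, 9, 10, 14], [5], [5, 10], [4], [4, 14], [4, 10],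
      [4, 10, 14], [4, 9], [4, 9, 10], [4, 5], [4, 5, 14], [4, 5, 10], [4, 5, 10, 14], [4, 5, 9],
      [4, 5, 9, 10]],
    [
      [], [15], [14], [13], [13, 14], [10], [10, 14], [10, 13], [10, 13, 14], [10, 13, 14, 15],
      [9], [9, 10], [8], [8, 10], [8, 9], [8, 9, 14], [8, 9, 10], [8, 9, 10, 14], [5], [5, 15],
      [5, 10], [5, 10, 15], [4], [4, 15], [4, 14], [4, 10], [4, 10, 15], [4, 10, 14], [4, 9],
      [4, 9, 10], [4, 5], [4, 5, 15], [4, 5, 14], [4, 5, 10], [4, 5, 10, 15], [4, 5, 10, 14],
      [4, 5, 9], [4, 5, 9, 10]]]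

/-- Moves of the children, cell [17]. -/
def moveTwo : List (List (ℕ × List ℕ × List ℕ × List ℕ)) := [
    [
      (0, [], [], []), (1, [], [], [])],
    [
      (0, [], [], []), (1, [], [], []), (2, [], [], []), (3, [], [], [])],
    [
      (0, [], [], []), (0, [9], [6], [9]), (1, [], [], []), (1, [9], [6], [9]), (2, [], [], []),
      (2, [9], [6], [9]), (3, [], [], []), (3, [9], [6], [9])],
    [
      (0, [], [], []), (0, [8, 14], [7, 11], [8, 11, 14]), (1, [], [], []),
      (1, [8, 14], [7, 11], [8, 11, 14]), (2, [], [], []), (2, [8, 14], [7, 11], [8, 9, 11, 14]),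
      (3, [], [], []), (3, [8, 14], [7, 11], [8, 9, 11, 14])],
    [
      (0, [], [], []), (1, [], [], []), (2, [], [], []),
      (2, [6, 9, 12, 13], [6, 9], [9, 10, 12, 13, 14]), (3, [], [], []),
      (3, [7, 8, 11, 14], [7, 8, 11, 14], [10, 12, 14, 15]), (4, [], [], []),
      (4, [7, 8, 11, 14], [7, 8, 11, 14], [9, 10, 12])],
    [
      (0, [], [], []), (1, [], [], []), (2, [], [], []), (3, [], [], []), (4, [], [], []),
      (4, [7, 8, 11, 14], [7, 8, 11, 14], [13]), (5, [], [], []), (6, [], [], []), (7, [], [], []),
      (8, [], [], [])],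
    [
      (0, [], [], []), (1, [], [], []), (2, [], [], []), (3, [], [], []), (4, [], [], []),
      (5, [], [], []), (6, [], [], []), (7, [], [], []), (8, [], [], []), (9, [], [], []),
      (10, [], [], []), (11, [], [], []), (12, [], [], []), (13, [], [], []), (14, [], [], []),
      (15, [], [], []), (16, [], [], []), (17, [], [], [])],
    [
      (0, [], [], []), (0, [14], [11], [14]), (1, [], [], []), (1, [14], [11], [14]),
      (2, [], [], []), (2, [14], [11], [14]), (3, [], [], []), (3, [14], [11], [14]),
      (4, [], [], []), (4, [14], [11], [14]), (5, [], [], []), (5, [14], [11], [14]),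
      (6, [], [], []), (6, [14], [11], [14]), (7, [], [], []), (7, [14], [11], [14]),
      (8, [], [], []), (8, [14], [11], [14]), (9, [], [], []), (9, [14], [11], [14]),
      (10, [], [], []), (10, [14], [11], [14]), (11, [], [], []), (11, [14], [11], [14]),
      (12, [], [], []), (12, [14], [11], [14]), (13, [], [], []), (13, [14], [11], [14]),
      (14, [], [], []), (14, [14], [11], [14]), (15, [], [], []), (15, [14], [11], [14]),
      (16, [], [], []), (16, [14], [11], [14]), (17, [], [], []), (17, [14], [11], [14])],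
    [
      (0, [], [], []), (0, [13], [12], [13]), (1, [], [], []), (1, [13], [12], [13]),
      (2, [], [], []), (2, [13], [12], [13]), (3, [], [], []), (3, [13], [12], [13]),
      (4, [], [], []), (4, [13], [12], [13]), (5, [], [], []), (5, [13], [12], [13]),
      (6, [], [], []), (6, [13], [12], [13]), (7, [], [], []), (7, [13], [12], [13]),
      (8, [], [], []), (8, [13], [12], [13]), (9, [], [], []), (9, [13], [12], [13]),
      (10, [], [], []), (10, [13], [12], [13, 14]), (11, [], [], []), (11, [13], [12], [13, 14]),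
      (12, [], [], []), (12, [13], [12], [13, 14]), (13, [], [], []), (13, [13], [12], [13, 14]),
      (14, [], [], []), (14, [13], [12], [13, 14]), (15, [], [], []), (15, [13], [12], [13, 14]),
      (16, [], [], []), (16, [13], [12], [13, 14]), (17, [], [], []), (17, [13], [12], [13, 14])],
    [
      (0, [], [], []), (1, [], [], []), (2, [], [], []), (3, [], [], []), (4, [], [], []),
      (4, [7, 8, 11, 14], [7, 8, 11, 14], [14]), (5, [], [], []),
      (5, [7, 8, 11, 13, 14, 15], [7, 8, 11, 12, 14, 15], [14, 15]), (6, [], [], []),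
      (6, [10, 15], [10, 15], []), (7, [], [], []), (7, [10, 15], [10, 15], []), (8, [], [], []),
      (8, [10, 15], [10, 15], [14]), (9, [], [], []), (9, [10, 15], [10, 15], [14]),
      (10, [], [], []), (10, [11, 14], [11, 14], [14, 15]), (11, [], [], []),
      (11, [11, 14], [11, 14], [14, 15]), (12, [], [], []), (12, [12, 13], [12, 13], [15]),
      (13, [], [], []), (13, [12, 13], [12, 13], [15]), (14, [], [], []),
      (14, [12, 13], [12, 13], [15]), (15, [], [], []), (15, [12, 13], [12, 13], [15]),
      (16, [], [], []), (16, [12, 13], [12, 13], [14, 15]), (17, [], [], []),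
      (17, [12, 13], [12, 13], [14, 15]), (18, [], [], []), (18, [12, 13], [12, 13], [14, 15]),
      (19, [], [], []), (19, [12, 13], [12, 13], [14, 15])],
    [
      (0, [], [], []), (1, [], [], []), (2, [], [], []), (3, [], [], []), (4, [], [], []),
      (5, [], [], []), (6, [], [], []), (7, [], [], []), (8, [], [], []),
      (8, [10, 15], [10, 15], []), (9, [], [], []), (9, [10, 15], [10, 15], []), (10, [], [], []),
      (10, [6, 9, 10, 11, 12, 13, 15], [6, 9, 10, 14, 15], [15]), (11, [], [], []),
      (11, [6, 9, 10, 11, 12, 13, 14], [6, 9, 10, 11, 14], []), (12, [], [], []), (13, [], [], []),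
      (14, [], [], []), (15, [], [], []), (16, [], [], []), (16, [12, 13], [12, 13], []),
      (17, [], [], []), (17, [12, 13], [12, 13], []), (18, [], [], []), (19, [], [], []),
      (20, [], [], []), (21, [], [], []), (22, [], [], []), (22, [10, 15], [10, 15], []),
      (23, [], [], []), (23, [10, 15], [10, 15], []), (24, [], [], []), (25, [], [], []),
      (26, [], [], []), (27, [], [], []), (28, [], [], []), (28, [10, 15], [10, 15], []),
      (29, [], [], []), (29, [10, 15], [10, 15], [])],
    [
      (0, [], [], []), (1, [], [], []), (2, [], [], []), (2, [6, 9, 12], [6, 9, 12], []),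
      (3, [], [], []), (3, [7, 8, 11, 14], [7, 8, 11, 14], []), (4, [], [], []),
      (4, [7, 8, 11, 14], [7, 8, 11, 14], []), (5, [], [], []),
      (5, [7, 8, 11, 13, 14, 15], [7, 8, 11, 12, 14, 15], []), (6, [], [], []),
      (6, [7, 8, 11, 13, 14, 15], [7, 8, 11, 12, 14, 15], []), (7, [], [], []),
      (7, [6, 9, 12, 14, 15], [6, 9, 11, 12, 15], []), (8, [], [], []), (9, [], [], []),
      (10, [], [], []), (10, [11, 14], [11, 14], []), (11, [], [], []),
      (11, [11, 14], [11, 14], []), (12, [], [], []), (12, [12, 13], [12, 13], []),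
      (13, [], [], []), (13, [12, 13], [12, 13], []), (14, [], [], []),
      (14, [11, 14], [11, 14], []), (15, [], [], []), (15, [11, 14], [11, 14], []),
      (16, [], [], []), (16, [11, 14], [11, 14], []), (17, [], [], []),
      (17, [11, 14], [11, 14], []), (18, [], [], []), (19, [], [], []), (20, [], [], []),
      (21, [], [], []), (22, [], [], []), (23, [], [], []), (24, [], [], []),
      (24, [6, 7, 9, 11, 12, 13, 15], [6, 8, 9, 11, 12, 14, 15], []), (25, [], [], []),
      (26, [], [], []), (27, [], [], []), (27, [6, 7, 9, 11, 14], [6, 8, 9, 13, 14], []),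
      (28, [], [], []), (28, [11, 12, 14], [11, 13, 14], []), (29, [], [], []),
      (29, [11, 12, 14], [11, 13, 14], []), (30, [], [], []), (31, [], [], []), (32, [], [], []),
      (32, [6, 8, 9, 11, 12, 14, 15], [6, 7, 9, 11, 12, 13, 15], []), (33, [], [], []),
      (34, [], [], []), (35, [], [], []), (35, [6, 8, 9, 13, 14], [6, 7, 9, 11, 14], []),
      (36, [], [], []), (36, [11, 13, 14], [11, 12, 14], []), (37, [], [], []),
      (37, [11, 13, 14], [11, 12, 14], [])]]

/-- Conjugators of the representatives, cell [17]. -/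
def leafTwo : List (List (Fin 4) × List (Fin 4)) := [
    ([2, 1, 3, 0, 2, 2], [3, 3, 1, 3, 3, 2, 0, 1, 3, 2, 2, 2]),
    ([3, 0, 2, 1, 3, 2], [3, 0, 1, 3, 2, 0, 2, 3, 0, 2, 2, 0, 2]), ([3], [3, 1, 0, 2, 2, 0]),
    ([3, 0], [0, 2, 2, 2, 1, 0, 2, 0, 2, 1, 3]),
    ([2, 1, 3, 1, 3, 2], [2, 3, 1, 3, 3, 2, 0, 2, 2, 2, 0, 1, 3, 2]), ([], []), ([], []), ([], []),
    ([], []), ([], []), ([1, 3, 0, 2, 0], [1, 3, 1, 3, 3, 2, 0, 2, 0, 1, 3, 2, 1, 3, 0, 2]),
    ([], []), ([], []), ([2, 1, 3], [2, 3, 2, 1, 0, 2, 0, 2, 0, 1, 3, 1, 3, 3]), ([], []),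
    ([], []), ([3], [3, 2, 2, 2, 1, 0, 2, 2, 0]), ([3, 2], [3, 2, 2, 2, 0, 2, 2, 0, 2, 0]),
    ([2, 1, 3, 2, 0, 2, 0], [2, 0, 2, 0, 2, 3, 3, 1, 3, 1, 3, 2]),
    ([2, 1, 3, 0, 2], [3, 1, 3, 2, 0, 1, 3, 3, 2, 1, 3, 0, 2]), ([], []), ([], []), ([], []),
    ([], []), ([], []), ([3, 3], [2, 2, 0, 2, 0, 2, 2, 0, 2, 3, 0]),
    ([3, 3], [2, 0, 2, 3, 0, 2, 0, 2, 2, 0, 2, 0]), ([3, 3, 0], [3, 2, 0, 2, 2, 0, 2, 3, 0]),
    ([], []), ([1, 3, 3, 2], [3, 3, 0, 1, 3, 1, 3, 2, 2, 0, 2, 2, 0, 2]), ([], []), ([], []),
    ([], []), ([2, 3, 0], [3, 3, 2, 0, 2, 2, 0, 2, 3, 0, 2]),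
    ([2, 3, 0], [1, 0, 2, 1, 0, 2, 1, 3]), ([2, 3, 2], [2, 3, 0, 2, 0, 2, 1, 0, 2, 2, 0]),
    ([], []), ([3, 3, 1, 0, 2, 3, 0], [0, 2, 3, 3, 1, 3, 1, 3, 0, 2, 0, 2, 3, 0])]

/-- Orbit representatives by level, cell [16, 17]. -/
def repBoth : List (List (List ℕ)) := [
    [
      []],
    [
      []],
    [
      []],
    [
      []],
    [
      []],
    [
      []],
    [
      []],
    [
      [], [10]],
    [
      [], [10]],
    [
      [], [10]],
    [
      [], [13], [10], [10, 13]],
    [
      [], [13], [10], [10, 13]],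
    [
      [], [15], [13], [13, 15], [10], [10, 15], [10, 13], [10, 13, 15]]]

/-- Moves of the children, cell [16, 17]. -/
def moveBoth : List (List (ℕ × List ℕ × List ℕ × List ℕ)) := [
    [
      (0, [], [], []), (0, [8, 14], [4, 5], [5, 8, 14])],
    [
      (0, [], [], []), (0, [14], [5], [14])],
    [
      (0, [], [], []), (0, [6], [12], [12])],
    [
      (0, [], [], []), (0, [7, 11], [10, 15], [10])],
    [
      (0, [], [], []), (0, [10, 15], [8, 14], [10, 14, 15])],
    [
      (0, [], [], []), (0, [13], [9], [13])],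
    [
      (0, [], [], []), (1, [], [], [])],
    [
      (0, [], [], []), (0, [11], [15], [15]), (1, [], [], []), (1, [11], [15], [15])],
    [
      (0, [], [], []), (0, [12], [13], [13]), (1, [], [], []), (1, [12], [13], [13])],
    [
      (0, [], [], []), (1, [], [], []), (2, [], [], []), (3, [], [], [])],
    [
      (0, [], [], []), (0, [15], [14], [15]), (1, [], [], []), (1, [15], [14], [15]),
      (2, [], [], []), (2, [15], [14], [15]), (3, [], [], []), (3, [15], [14], [15])],
    [
      (0, [], [], []), (1, [], [], []), (2, [], [], []), (3, [], [], []), (4, [], [], []),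
      (5, [], [], []), (6, [], [], []), (7, [], [], [])]]

/-- Conjugators of the representatives, cell [16, 17]. -/
def leafBoth : List (List (Fin 4) × List (Fin 4)) := [
    ([2, 0, 2, 3, 0, 1, 3], [2, 3, 3, 2, 1, 3, 1, 3, 2, 0, 2, 3, 1, 0, 2, 0]),
    ([2, 3, 0, 1, 3, 3, 0], [1, 3, 0, 2, 2, 0, 2, 3, 0, 2, 1, 3, 1, 0, 2]),
    ([2, 1, 3, 3, 2], [3, 0, 2, 1, 3, 3, 2, 0, 1, 3, 3, 2]),
    ([3, 3, 1, 3, 0, 2], [1, 3, 0, 2, 2, 2, 0, 1, 3, 0, 2, 0, 2, 1, 3]), ([], []), ([], []),
    ([], []), ([], [])]

/-- An odd word centralising the element of order three. -/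
def oddW : List (Fin 4) := [0, 3, 3, 3, 3, 3, 3, 2, 2, 2, 0, 2, 2, 2, 3, 0, 2, 1, 0, 2]

end Cfsg.Agent.ReeLargeThompson.TitsCert
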