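/-
The certificates for the Tits group are checked.
-/
import Cfsg.Agent.EqLemmas
import Cfsg.Agent.Lib.ReeLargeThompson.Pack52
import Cfsg.Agent.Lib.ReeLargeThompson.TitsData
import Cfsg.Agent.Lib.Twisted.TitsHom

set_option autoImplicit false
set_option maxRecDepth 100000

namespace Cfsg.Agent.ReeLargeThompson.TitsCert

open Cfsg.Agent.BitMat Pack52 Cfsg.Agent.Twisted

/-- The word of a letter. -/
def aw (a : ℕ) : List (Fin 4) := awL.getD a []

/-- The matrix of a letter. -/
def aB (a : ℕ) : List ℕ := aBL.getD a (idB 52)

/-- Two words have the same matrix. -/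
def eqA (u w : List ℕ) : Bool := evalP aB u == evalP aB w

/-- Only letters of the series from the given position on. -/
def inTail (j : ℕ) (l : List ℕ) : Bool := l.all fun a => decide (4 + j ≤ a ∧ a < 16)

/-- The table of the letters. -/
def chkLetters : Bool :=
  (List.range 18).all fun a => bddB (aB a) && (evalP Tits.genB (aw a) == packB (aB a))

/-- The series. -/
def chkSeries : Bool :=
  ((List.range 12).all fun j =>
    inTail (j + 1) (sqL.getD j []) && eqA [4 + j, 4 + j] (sqL.getD j [])) &&
  ((List.range 12).all fun j => (List.range j).all fun i => cmL.any fun c =>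
    c.1 == i && c.2.1 == j && inTail (j + 1) c.2.2 && eqA [4 + i, 4 + j] ([4 + j] ++ c.2.2 ++ [4 + i]))

/-- Conjugation of words by a Weyl letter. -/
def conjW (i : ℕ) (L : List (List ℕ)) : List (List ℕ) := L.map fun w => [16 + i] ++ w ++ [16 + i]

/-- The elements of the positive root subgroups. -/
def rootE : List (List (List ℕ)) :=
  let E0 : List (List ℕ) := [[], [0]]
  let E7 : List (List ℕ) := [[], [2], [2, 2], [2, 2, 2]]
  let E6 := conjW 1 E0
  let E2 := conjW 0 E6
  let E4 := conjW 1 E2
  let E1 := conjW 0 E7
  let E5 := conjW 1 E1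
  let E3 := conjW 0 E5
  [E0, E1, E2, E3, E4, E5, E6, E7]

/-- The positive root elements lie in the series. -/
def chkRoots : Bool :=
  (List.range 8).all fun j =>
    ((rootE.getD j []).zip (rootZ.getD j [])).all (fun p => inTail 0 p.2 && eqA p.1 p.2) &&
      ((rootE.getD j []).length == (rootZ.getD j []).length)

/-- The child of a representative. -/
def child (r : List ℕ) (j : ℕ) (b : Bool) : List ℕ := if b then r ++ [4 + j] else r

/-- One move. -/
def chkMove (N : List ℕ) (j : ℕ) (Rn : List (List ℕ)) (r : List ℕ) (b : Bool)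
    (c : ℕ × List ℕ × List ℕ × List ℕ) : Bool :=
  decide (c.1 < Rn.length) && inTail 0 c.2.1 && inTail 0 c.2.2.1 && inTail (j + 1) c.2.2.2 &&
    eqA (c.2.1 ++ child r j b) (Rn.getD c.1 [] ++ c.2.2.2 ++ c.2.2.1) && eqA (N ++ c.2.1) (c.2.2.1 ++ N)

/-- One level. -/
def chkLevel (N : List ℕ) (R : List (List (List ℕ))) (C : List (List (ℕ × List ℕ × List ℕ × List ℕ)))
    (j : ℕ) : Bool :=
  let Rn := R.getD (j + 1) []
  let Cj := C.getD j []
  (List.range (R.getD j []).length).all fun i =>
    decide (2 * i + 1 < Cj.length) &&
    chkMove N j Rn ((R.getD j []).getD i []) false (Cj.getD (2 * i) (0, [], [], [])) &&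
    chkMove N j Rn ((R.getD j []).getD i []) true (Cj.getD (2 * i + 1) (0, [], [], []))

/-- The parity of a word. -/
def oddB (l : List (Fin 4)) : Bool := (l.countP fun k => decide (2 ≤ k.val)) % 2 == 1

/-- Inverse words by letters. -/
def winvA (l : List (Fin 4)) : List ℕ := (Tits.winv l).map Fin.val

/-- The product of two conjugates of the element of order three. -/
def prodW (p : List (Fin 4) × List (Fin 4)) : List ℕ :=
  p.1.map Fin.val ++ [0, 1] ++ winvA p.1 ++ p.2.map Fin.val ++ [0, 1] ++ winvA p.2

/-- The representatives at the last level. -/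
def chkLeaves (N : List ℕ) (R : List (List (List ℕ))) (L : List (List (Fin 4) × List (Fin 4))) : Bool :=
  (List.range (R.getD 12 []).length).all fun i =>
    let w := (R.getD 12 []).getD i [] ++ N
    oddB (w.flatMap aw) || eqA w [] || eqA w (prodW (L.getD i ([], [])))

/-- A cell. -/
def chkTree (N : List ℕ) (R : List (List (List ℕ))) (C : List (List (ℕ × List ℕ × List ℕ × List ℕ)))
    (L : List (List (Fin 4) × List (Fin 4))) : Bool :=
  decide (R.getD 0 [] = [[]]) && (List.range 12).all (chkLevel N R C) && chkLeaves N R L

theorem letters_ok : chkLetters = true := by decide +kernel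

theorem series_ok : chkSeries = true := by decide +kernel

theorem roots_ok : chkRoots = true := by decide +kernel

theorem one_ok : chkTree [] repOne moveOne leafOne = true := by decide +kernel

theorem zero_ok : chkTree [16] repZero moveZero leafZero = true := by decide +kernel

theorem two_ok : chkTree [17] repTwo moveTwo leafTwo = true := by decide +kernel

theorem both_ok : chkTree [16, 17] repBoth moveBoth leafBoth = true := by decide +kernel

/-- Small facts: the Weyl letters, the element of order three and the odd centraliser. -/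
theorem misc_ok : eqA [16] ([0, 1, 0] : List ℕ) = true ∧ eqA [0, 1, 0, 1, 0, 1] [] = true ∧
    eqA [0, 1] [] = false ∧ oddB oddW = true ∧
    eqA (oddW.map Fin.val ++ [0, 1]) ([0, 1] ++ oddW.map Fin.val) = true ∧
    eqA [0, 0] [] = true ∧ eqA [1, 1] [] = true ∧ eqA [2, 2, 2, 2] [] = true ∧ eqA [3, 3, 3, 3] [] = true := by
  decide +kernel

/-- The Weyl letters as root elements. -/
theorem weyl_ok :
    (Tits.rootsB [33, 14, 33, 24, 23, 24] == aB 16) = true ∧
    (Tits.rootsB [27, 20, 27, 25, 22, 25, 27, 20, 27, 25, 22, 25] == aB 17) = true := by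
  decide +kernel

end Cfsg.Agent.ReeLargeThompson.TitsCert
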