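/-
Every non-identity element of the Tits group is a product of two conjugates of an element of order three.

* `good_cell` : the orbit certificates give the covering on four cells of ²F₄(2);
* `exists_tits` : the covering.
-/
import Cfsg.Agent.EqLemmas
import Cfsg.Agent.Lib.ReeLargeThompson.Displacement
import Cfsg.Agent.Lib.ReeLargeThompson.TitsCheck
import Cfsg.Agent.Lib.Twisted.Tits
import Mathlib.GroupTheory.OrderOfElement

set_option autoImplicit false
set_option maxRecDepth 100000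
set_option linter.unusedSectionVars false
set_option linter.style.haveILetI false

namespace Cfsg.Agent.ReeLargeThompson.TitsCert

open Cfsg.Lie Cfsg.Lie.ChevalleyDatum Matrix
open Cfsg.Agent.Chev Cfsg.Agent.ChevBN Cfsg.Agent.BitMat Pack52
open Cfsg.Agent.Twisted Cfsg.Agent.Twisted.F4 Cfsg.Agent.Twisted.Tits

/-! ### Words -/

/-- The value of a word in the letters. -/
noncomputable def wA (l : List ℕ) : T2 := wT (l.flatMap aw)

theorem wA_append (l l' : List ℕ) : wA (l ++ l') = wA l * wA l' := by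
  rw [wA, List.flatMap_append, wT_append]; rfl

theorem wA_nil : wA [] = 1 := rfl

theorem aB_bdd (a : ℕ) : (aB a).length = 52 ∧ ∀ c ∈ aB a, c < 2 ^ 52 := by
  by_cases ha : a < 18
  · have h := letters_ok
    simp only [chkLetters, List.all_eq_true, List.mem_range, Bool.and_eq_true] at h
    have h' := (h a ha).1
    simp only [bddB, Bool.and_eq_true, beq_iff_eq, List.all_eq_true, decide_eq_true_eq] at h'
    exact h'
  · have h : aB a = idB 52 := List.getD_eq_default _ _ (le_trans (le_of_eq (by rfl)) (Nat.le_of_not_lt ha))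
    rw [h]
    exact evalB_bdd (L := fun _ : Empty => []) (fun e => e.elim) []

theorem genB_bdd : ∀ k : Fin 4, (genB k).length = 52 ∧ ∀ c ∈ genB k, c < 2 ^ 52 := by decide +kernel

theorem coe_letter (a : ℕ) :
    (((wT (aw a) : T2) : GF) : Matrix chevF4.Idx chevF4.Idx (ZMod 2)) = toMat eI (aB a) := by
  rw [coe_wT]
  by_cases ha : a < 18
  · have h := letters_ok
    simp only [chkLetters, List.all_eq_true, List.mem_range, Bool.and_eq_true, beq_iff_eq] at h
    obtain ⟨h1, h2⟩ := h a ha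
    rw [Tits.wB, evalB_eq_of_packed_lit genB_bdd h1 h2]
  · have h1 : aw a = [] := List.getD_eq_default _ _ (le_trans (le_of_eq (by rfl)) (Nat.le_of_not_lt ha))
    have h2 : aB a = idB 52 := List.getD_eq_default _ _ (le_trans (le_of_eq (by rfl)) (Nat.le_of_not_lt ha))
    rw [h1, h2]
    rfl

theorem wA_eq {u w : List ℕ} (h : eqA u w = true) : wA u = wA w := by
  have hP : ∀ l : List ℕ, wA l = (l.map fun a => wT (aw a)).prod := by
    intro l
    induction l with
    | nil => rfl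
    | cons a l ih => rw [List.map_cons, List.prod_cons, ← ih, wA, List.flatMap_cons, wT_append]; rfl
  refine Subtype.ext (Units.ext ?_)
  show ((Units.coeHom _).comp T2.subtype) (wA u) = ((Units.coeHom _).comp T2.subtype) (wA w)
  rw [hP, hP, mat_prod eI _ (fun a => (aB_bdd a).1) (fun a => coe_letter a) u,
    mat_prod eI _ (fun a => (aB_bdd a).1) (fun a => coe_letter a) w,
    evalB_eq_of_packed aB_bdd (beq_iff_eq.1 h)]

theorem wA_gen (l : List (Fin 4)) : wA (l.map Fin.val) = wT l := by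
  have h : ∀ k : Fin 4, aw k.val = [k] := by decide +kernel
  rw [wA, List.flatMap_map, show (fun k : Fin 4 => aw k.val) = fun k => [k] from funext h]
  congr 1
  induction l with
  | nil => rfl
  | cons k l ih => rw [List.flatMap_cons, ih]; rfl

theorem gT_inv (k : Fin 4) : wT (if k.val < 2 then [k] else [k, k, k]) * gT k = 1 := by
  have key : ∀ k : Fin 4, eqA (((if k.val < 2 then [k] else [k, k, k]) ++ [k]).map Fin.val) [] = true := by
    obtain ⟨-, -, -, -, -, h0, h1, h2, h3⟩ := misc_ok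
    intro k
    fin_cases k
    exacts [h0, h1, h2, h3]
  have h := wA_eq (key k)
  rw [wA_gen, wA_nil, Tits.wT_append] at h
  rw [show gT k = wT [k] from (mul_one (gT k)).symm]
  exact h

theorem wT_winv : ∀ l : List (Fin 4), wT (Tits.winv l) = (wT l)⁻¹ := by
  intro l
  refine eq_inv_of_mul_eq_one_left ?_
  induction l with
  | nil => simp [Tits.winv, Tits.wT]
  | cons k l ih =>
    have e : Tits.winv (k :: l) = Tits.winv l ++ (if k.val < 2 then [k] else [k, k, k]) := by
      simp [Tits.winv]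
    rw [e, Tits.wT_append, show wT (k :: l) = gT k * wT l by simp [Tits.wT], mul_assoc, ← mul_assoc _ (gT k),
      gT_inv, one_mul, ih]

theorem chi_gT (k : Fin 4) : chi (gT k) = Multiplicative.ofAdd (chi0 k) := by
  show Multiplicative.ofAdd (fF (act (gT k) x0) + fF x0) = _
  have h : fF (act (gT k) x0) = fF x0 + chi0 k * fQ x0 := by
    show fF ((gen0 k : Matrix _ _ (ZMod 2)) *ᵥ x0) = _
    rw [coe_gen0]; exact (gen_step k x0).2
  rw [h, fQ_x0, mul_one, add_comm (fF x0), add_assoc, CharTwo.add_self_eq_zero, add_zero]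

theorem chi_wT : ∀ l : List (Fin 4),
    chi (wT l) = Multiplicative.ofAdd (((l.countP fun k => decide (2 ≤ k.val)) : ℕ) : ZMod 2)
  | [] => map_one chi
  | k :: l => by
    rw [show wT (k :: l) = gT k * wT l by simp [Tits.wT], map_mul, chi_gT, chi_wT l, ← ofAdd_add, chi0]
    congr 1
    rw [List.countP_cons]
    by_cases hk : k.val < 2
    · rw [if_pos hk, decide_eq_false (show ¬ 2 ≤ k.val by omega)]
      simp
    · rw [if_neg hk, decide_eq_true (show 2 ≤ k.val by omega)]
      simp [add_comm]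

theorem chi_ne_of_odd {l : List (Fin 4)} (h : oddB l = true) : chi (wT l) ≠ 1 := by
  rw [chi_wT, ne_eq, ofAdd_eq_one, ← ZMod.natCast_mod]
  rw [oddB, beq_iff_eq] at h
  rw [h]
  decide

theorem chiA_ne {w : List ℕ} (h : oddB (w.flatMap aw) = true) : chi (wA w) ≠ 1 := chi_ne_of_odd h

attribute [local irreducible] wA Tits.wT

/-! ### The series -/

/-- The terms of the series. -/
noncomputable def UU (j : ℕ) : Subgroup T2 :=
  Subgroup.closure {g | ∃ i, j ≤ i ∧ i < 12 ∧ g = wA [4 + i]}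

theorem letter_mem {j i : ℕ} (h : j ≤ i) (hi : i < 12) : wA [4 + i] ∈ UU j :=
  Subgroup.subset_closure ⟨i, h, hi, rfl⟩

theorem UU_anti {j j' : ℕ} (h : j ≤ j') : UU j' ≤ UU j :=
  (Subgroup.closure_le _).2 (by rintro _ ⟨i, hi, hi', rfl⟩; exact letter_mem (h.trans hi) hi')

theorem tail_mem {j : ℕ} : ∀ {l : List ℕ}, inTail j l = true → wA l ∈ UU j
  | [], _ => by rw [wA_nil]; exact one_mem _
  | a :: l, h => by
    simp only [inTail, List.all_cons, Bool.and_eq_true, decide_eq_true_eq] at h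
    obtain ⟨⟨h1, h2⟩, h3⟩ := h
    rw [← List.singleton_append, wA_append]
    refine mul_mem ?_ (tail_mem h3)
    obtain ⟨i, rfl⟩ : ∃ i, a = 4 + i := ⟨a - 4, by omega⟩
    exact letter_mem (by omega) (by omega)

theorem UU_twelve : UU 12 = ⊥ :=
  le_bot_iff.1 ((Subgroup.closure_le _).2 (by rintro _ ⟨i, hi, hi', rfl⟩; omega))

theorem rel_cm {i j : ℕ} (hij : i < j) (hj : j < 12) :
    ∃ t ∈ UU (j + 1), wA [4 + i] * wA [4 + j] * (wA [4 + i])⁻¹ = wA [4 + j] * t := by
  have h := series_ok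
  simp only [chkSeries, Bool.and_eq_true, List.all_eq_true, List.mem_range, List.any_eq_true] at h
  obtain ⟨c, -, ⟨-, ht⟩, he⟩ := h.2 j hj i hij
  refine ⟨wA c.2.2, tail_mem ht, ?_⟩
  have e := wA_eq he
  rw [wA_append, wA_append, show ([4 + i, 4 + j] : List ℕ) = [4 + i] ++ [4 + j] from rfl, wA_append] at e
  rw [e, mul_inv_cancel_right]

theorem rel_sq {j : ℕ} (hj : j < 12) : wA [4 + j] * wA [4 + j] ∈ UU (j + 1) := by
  have h := series_ok
  simp only [chkSeries, Bool.and_eq_true, List.all_eq_true, List.mem_range] at h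
  obtain ⟨ht, he⟩ := h.1 j hj
  rw [← wA_append, show ([4 + j] : List ℕ) ++ [4 + j] = [4 + j, 4 + j] from rfl, wA_eq he]
  exact tail_mem ht

theorem UU_zero_norm (j : ℕ) : UU 0 ≤ Subgroup.normalizer (UU j : Set T2) := by
  refine (Subgroup.closure_le _).2 ?_
  rintro _ ⟨i, -, hi, rfl⟩
  refine Subgroup.mem_normalizer_fintype fun u (hu : u ∈ UU j) => ?_
  induction hu using Subgroup.closure_induction with
  | mem y hy =>
    obtain ⟨l, hl, hl', rfl⟩ := hy
    by_cases hij : j ≤ i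
    · exact mul_mem (mul_mem (letter_mem hij hi) (letter_mem hl hl')) (inv_mem (letter_mem hij hi))
    · obtain ⟨t, ht, e⟩ := rel_cm (show i < l by omega) hl'
      rw [e]
      exact mul_mem (letter_mem hl hl') (UU_anti (by omega) ht)
  | one => simp
  | mul a b _ _ ha hb =>
    have e : wA [4 + i] * (a * b) * (wA [4 + i])⁻¹ =
        (wA [4 + i] * a * (wA [4 + i])⁻¹) * (wA [4 + i] * b * (wA [4 + i])⁻¹) := by group
    rw [e]
    exact mul_mem ha hb
  | inv a _ ha =>
    have e : wA [4 + i] * a⁻¹ * (wA [4 + i])⁻¹ = (wA [4 + i] * a * (wA [4 + i])⁻¹)⁻¹ := by group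
    rw [e]
    exact inv_mem ha

theorem conj_mem_UU {j : ℕ} {k u : T2} (hk : k ∈ UU 0) (hu : u ∈ UU j) : k * u * k⁻¹ ∈ UU j :=
  (Subgroup.mem_normalizer_iff.1 (UU_zero_norm j hk) u).1 hu

theorem conj_mem_UU' {j : ℕ} {k u : T2} (hk : k ∈ UU 0) (hu : u ∈ UU j) : k⁻¹ * u * k ∈ UU j := by
  simpa using conj_mem_UU (inv_mem hk) hu

theorem UU_split {j : ℕ} (hj : j < 12) {u : T2} (hu : u ∈ UU j) :
    u ∈ UU (j + 1) ∨ ∃ t ∈ UU (j + 1), u = wA [4 + j] * t := by
  set z := wA [4 + j] with hz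
  have hz0 : z ∈ UU 0 := letter_mem (Nat.zero_le _) hj
  induction hu using Subgroup.closure_induction with
  | mem y hy =>
    obtain ⟨l, hl, hl', rfl⟩ := hy
    rcases eq_or_lt_of_le hl with rfl | h
    · exact Or.inr ⟨1, one_mem _, (mul_one _).symm⟩
    · exact Or.inl (letter_mem h hl')
  | one => exact Or.inl (one_mem _)
  | mul a b _ _ ha hb =>
    rcases ha with ha | ⟨s, hs, rfl⟩ <;> rcases hb with hb | ⟨t, ht, rfl⟩
    · exact Or.inl (mul_mem ha hb)
    · exact Or.inr ⟨z⁻¹ * a * z * t, mul_mem (conj_mem_UU' hz0 ha) ht, by group⟩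
    · exact Or.inr ⟨s * b, mul_mem hs hb, by group⟩
    · refine Or.inl ?_
      have e : z * s * (z * t) = z * z * (z⁻¹ * s * z) * t := by group
      rw [e]
      exact mul_mem (mul_mem (rel_sq hj) (conj_mem_UU' hz0 hs)) ht
  | inv a _ ha =>
    rcases ha with ha | ⟨s, hs, rfl⟩
    · exact Or.inl (inv_mem ha)
    · refine Or.inr ⟨z⁻¹ * s⁻¹ * z * (z * z)⁻¹, mul_mem (conj_mem_UU' hz0 (inv_mem hs)) (inv_mem (rel_sq hj)), ?_⟩
      group

/-! ### The orbits -/

/-- The element of order three. -/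
noncomputable def x3 : T2 := wA [0, 1]

/-- The property spread along the orbits. -/
def Good (g : T2) : Prop := chi g ≠ 1 ∨ g = 1 ∨ ∃ a b : T2, g = a * x3 * a⁻¹ * (b * x3 * b⁻¹)

theorem Good.conj {g : T2} (h : Good g) (k : T2) : Good (k * g * k⁻¹) := by
  rcases h with h | rfl | ⟨a, b, rfl⟩
  · left
    rwa [map_mul, map_mul, map_inv, mul_inv_cancel_comm]
  · right; left; simp
  · right; right
    exact ⟨k * a, k * b, by group⟩

theorem good_of_conj {g : T2} (k : T2) (h : Good (k * g * k⁻¹)) : Good g := by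
  simpa [mul_assoc] using h.conj k⁻¹

theorem good_cell {N : List ℕ} {R : List (List (List ℕ))} {C : List (List (ℕ × List ℕ × List ℕ × List ℕ))}
    {L : List (List (Fin 4) × List (Fin 4))} (hok : chkTree N R C L = true) {u : T2} (hu : u ∈ UU 0) :
    Good (u * wA N) := by
  simp only [chkTree, Bool.and_eq_true, decide_eq_true_eq, List.all_eq_true, List.mem_range] at hok
  obtain ⟨⟨h0, hlev⟩, hleaf⟩ := hok
  suffices H : ∀ d j, j + d = 12 → ∀ i < (R.getD j []).length, ∀ t ∈ UU j,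
      Good (wA ((R.getD j []).getD i []) * t * wA N) by
    have := H 12 0 rfl 0 (by rw [h0]; exact Nat.one_pos) u hu
    rwa [h0, show ([[]] : List (List ℕ)).getD 0 [] = [] from rfl, wA_nil, one_mul] at this
  intro d
  induction d with
  | zero =>
    intro j hj i hi t ht
    obtain rfl : j = 12 := by omega
    rw [UU_twelve, Subgroup.mem_bot] at ht
    subst ht
    rw [mul_one, ← wA_append]
    simp only [chkLeaves, List.all_eq_true, List.mem_range, Bool.or_eq_true] at hleaf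
    rcases hleaf i hi with (h | h) | h
    · exact Or.inl (chiA_ne h)
    · exact Or.inr (Or.inl ((wA_eq h).trans wA_nil))
    · refine Or.inr (Or.inr ⟨wT (L.getD i ([], [])).1, wT (L.getD i ([], [])).2, ?_⟩)
      rw [wA_eq h, prodW]
      simp only [wA_append, winvA, wA_gen, wT_winv, x3, mul_assoc]
  | succ d ih =>
    intro j hj i hi t ht
    have hj' : j < 12 := by omega
    have hl := hlev j hj'
    simp only [chkLevel, List.all_eq_true, List.mem_range, Bool.and_eq_true, decide_eq_true_eq] at hl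
    obtain ⟨⟨-, hF⟩, hT⟩ := hl i hi
    have step : ∀ (b : Bool) (c : ℕ × List ℕ × List ℕ × List ℕ),
        chkMove N j (R.getD (j + 1) []) ((R.getD j []).getD i []) b c = true → ∀ s ∈ UU (j + 1),
          Good (wA (child ((R.getD j []).getD i []) j b) * s * wA N) := by
      intro b c hc s hs
      simp only [chkMove, Bool.and_eq_true, decide_eq_true_eq] at hc
      obtain ⟨⟨⟨⟨⟨hq, -⟩, hs0⟩, htail⟩, e1⟩, e2⟩ := hc
      have e1' := wA_eq e1
      have e2' := wA_eq e2
      simp only [wA_append] at e1' e2'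
      refine good_of_conj (wA c.2.1) ?_
      have key := ih (j + 1) (by omega) c.1 hq
        (wA c.2.2.2 * (wA c.2.2.1 * s * (wA c.2.2.1)⁻¹))
        (mul_mem (tail_mem htail) (conj_mem_UU (tail_mem hs0) hs))
      convert key using 1
      have e3 : wA N * (wA c.2.1)⁻¹ = (wA c.2.2.1)⁻¹ * wA N := by
        rw [mul_inv_eq_iff_eq_mul, mul_assoc, e2', inv_mul_cancel_left]
      calc wA c.2.1 * (wA (child ((R.getD j []).getD i []) j b) * s * wA N) * (wA c.2.1)⁻¹
          = (wA c.2.1 * wA (child ((R.getD j []).getD i []) j b)) * s * (wA N * (wA c.2.1)⁻¹) := by group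
        _ = _ := by rw [e1', e3]; group
    rcases UU_split hj' ht with h | ⟨s, hs, rfl⟩
    · simpa [child] using step false _ hF t h
    · have := step true _ hT s hs
      simpa [child, wA_append, mul_assoc] using this

/-! ### The Sylow subgroup -/

local notation "RT" => (rgdF4' hK2)

theorem coe_gen_word {rs : List ℕ} {l : List (Fin 4)} (hrs : ∀ r ∈ rs, r ∈ roots) (h : rootsB rs = Tits.wB l) :
    (rs.map xr).prod = ((wT l : T2) : GF) :=
  Units.ext (by rw [(coe_rootWord rs hrs).1, h, coe_wT])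

theorem nW_letter (i : Fin 2) : (RF (ZMod 2)).nw (W i) = ((wA [16 + i.val] : T2) : GF) := by
  have hv : ∀ a, aw a = (([a] : List ℕ).flatMap aw) := fun a => by simp
  obtain ⟨h0, h1⟩ := weyl_ok
  have key : ∀ (a : ℕ) (rs : List ℕ), (∀ r ∈ rs, r ∈ roots) → rootsB rs = aB a →
      (rs.map xr).prod = ((wA [a] : T2) : GF) := by
    intro a rs hrs h
    refine Units.ext ?_
    rw [(coe_rootWord rs hrs).1, h, wA, ← hv, coe_letter]
  obtain ⟨e0, e1, e2, e3, f0, f1, f2, f3⟩ : chevF4.simple 0 = 33 ∧ chevF4.simple 1 = 27 ∧ chevF4.simple 2 = 25 ∧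
      chevF4.simple 3 = 24 ∧ chevF4.neg 33 = 14 ∧ chevF4.neg 27 = 20 ∧ chevF4.neg 25 = 22 ∧ chevF4.neg 24 = 23 := by
    decide +kernel
  fin_cases i
  · rw [show W ((fun i => i) (⟨0, by decide⟩ : Fin 2)) = [⟨0, by decide⟩, ⟨3, by decide⟩] from rfl]
    refine Eq.trans ?_ (key 16 _ (by decide) (beq_iff_eq.1 h0))
    simp [RGD.RootData.nw, RF, chevRGD, ng, xr, e0, e3, f0, f3, mul_assoc]
  · rw [show W ((fun i => i) (⟨1, by decide⟩ : Fin 2)) =
      [⟨1, by decide⟩, ⟨2, by decide⟩, ⟨1, by decide⟩, ⟨2, by decide⟩] from rfl]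
    refine Eq.trans ?_ (key 17 _ (by decide) (beq_iff_eq.1 h1))
    simp [RGD.RootData.nw, RF, chevRGD, ng, xr, e1, e2, f1, f2, mul_assoc]

set_option maxHeartbeats 1000000 in
theorem rootE_spec (j : Fin 16) (hj : j.val < 8) {g : GF} (hg : g ∈ F4.X (ZMod 2) 0 j) :
    ∃ w ∈ rootE.getD j.val [], g = ((wA w : T2) : GF) := by
  have hc : ∀ t : ZMod 2, t = 0 ∨ t = 1 := by decide
  obtain ⟨b1, b2, -, -⟩ := words_B
  have h0 : ∀ g, g ∈ F4.X (ZMod 2) 0 0 → ∃ w ∈ ([[], [0]] : List (List ℕ)), g = ((wA w : T2) : GF) := by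
    intro g hg
    obtain ⟨t, rfl⟩ := (mem_X0_iff hK2).1 hg
    rcases hc t with rfl | rfl
    · exact ⟨[], by simp, by simp [wA_nil, xF, xg_zero]⟩
    · refine ⟨[0], by simp, ?_⟩
      rw [show ([0] : List ℕ) = ([0] : List (Fin 4)).map Fin.val from rfl, wA_gen]
      simp [Tits.wT, Tits.gT, gen0, genRoots, xr, xF]
  have h7 : ∀ g, g ∈ F4.X (ZMod 2) 0 7 →
      ∃ w ∈ ([[], [2], [2, 2], [2, 2, 2]] : List (List ℕ)), g = ((wA w : T2) : GF) := by
    intro g hg
    obtain ⟨t, u, rfl⟩ := (mem_X7_iff hK2).1 hg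
    rcases pairs_cases t u with ⟨rfl, rfl⟩ | ⟨rfl, rfl⟩ | ⟨rfl, rfl⟩ | ⟨rfl, rfl⟩
    · exact ⟨[], by simp, by simp [wA_nil, xF, xg_zero]⟩
    · refine ⟨[2], by simp, ?_⟩
      rw [show ([2] : List ℕ) = ([2] : List (Fin 4)).map Fin.val from rfl, wA_gen]
      simp [Tits.wT, Tits.gT, gen0, genRoots, xr, xF, xg_zero, mul_assoc]
    · refine ⟨[2, 2], by simp, ?_⟩
      rw [show ([2, 2] : List ℕ) = ([2, 2] : List (Fin 4)).map Fin.val from rfl, wA_gen,
        ← coe_gen_word (by decide) b1]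
      simp [xr, xF, xg_zero]
    · refine ⟨[2, 2, 2], by simp, ?_⟩
      rw [show ([2, 2, 2] : List ℕ) = ([2, 2, 2] : List (Fin 4)).map Fin.val from rfl, wA_gen,
        ← coe_gen_word (by decide) b2]
      simp [xr, xF, xg_zero, CharTwo.add_self_eq_zero, mul_assoc]
  have step : ∀ (i : Fin 2) (k : Fin 16) (E : List (List ℕ)),
      (∀ g, g ∈ F4.X (ZMod 2) 0 k → ∃ w ∈ E, g = ((wA w : T2) : GF)) →
      ∀ g, g ∈ F4.X (ZMod 2) 0 (wcl i k) → ∃ w ∈ conjW i.val E, g = ((wA w : T2) : GF) := by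
    intro i k E hE g hg
    rw [← map_conj_X] at hg
    obtain ⟨y, hy, rfl⟩ := hg
    obtain ⟨w, hw, rfl⟩ := hE y hy
    refine ⟨[16 + i.val] ++ w ++ [16 + i.val], List.mem_map.2 ⟨w, hw, rfl⟩, ?_⟩
    rw [wA_append, wA_append, Subgroup.coe_mul, Subgroup.coe_mul, ← nW_letter]
    show (RF (ZMod 2)).nw (W i) * _ * ((RF (ZMod 2)).nw (W i))⁻¹ = _
    rw [nW_inv]
  have h6 := step 1 0 _ h0
  have h2 := step 0 _ _ h6
  have h4 := step 1 _ _ h2
  have h1 := step 0 7 _ h7
  have h5 := step 1 _ _ h1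
  have h3 := step 0 _ _ h5
  fin_cases j
  exacts [h0 g hg, h1 g hg, h2 g hg, h3 g hg, h4 g hg, h5 g hg, h6 g hg, h7 g hg, absurd hj (by decide),
    absurd hj (by decide), absurd hj (by decide), absurd hj (by decide), absurd hj (by decide),
    absurd hj (by decide), absurd hj (by decide), absurd hj (by decide)]

theorem Upos_le_UU : (RT).Upos ≤ (UU 0).map T2.subtype := by
  refine iSup₂_le fun j hj g hg => ?_
  have hj' : j.val < 8 := hj
  obtain ⟨w, hw, rfl⟩ := rootE_spec j hj' hg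
  refine ⟨wA w, ?_, rfl⟩
  have h := roots_ok
  simp only [chkRoots, List.all_eq_true, List.mem_range, Bool.and_eq_true, beq_iff_eq] at h
  obtain ⟨hz, hlen⟩ := h j.val hj'
  obtain ⟨i, hi, rfl⟩ := List.getElem_of_mem hw
  have hi' : i < (rootZ.getD j.val []).length := hlen ▸ hi
  obtain ⟨h1, h2⟩ := hz (((rootE.getD j.val [])[i]), ((rootZ.getD j.val [])[i]))
    (List.mem_iff_getElem.2 ⟨i, by rw [List.length_zip]; exact lt_min hi hi', by rw [List.getElem_zip]⟩)
  rw [wA_eq h2]
  exact tail_mem h1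

theorem B_le_UU {b : GF} (hb : b ∈ (RT).B) : ∃ u ∈ UU 0, b = ((u : T2) : GF) := by
  obtain ⟨u, hu, h, hh, rfl⟩ := (RT).exists_B hb
  have hbot : (σF (ZMod 2) 0).H1 = ⊥ := Subgroup.eq_bot_of_card_eq _ (by rw [card_H1 hK2]; norm_num)
  have h1 : h = 1 := by
    have hh' : h ∈ (σF (ZMod 2) 0).H1 := hh
    rwa [hbot, Subgroup.mem_bot] at hh'
  obtain ⟨v, hv, rfl⟩ := Upos_le_UU hu
  exact ⟨v, hv, by rw [h1, mul_one]; rfl⟩

theorem Bs_odd : Odd (Bs hK2).index := by
  have h1 : Nat.card ↥(Bs hK2) = 4096 := by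
    rw [Bs, Nat.card_congr (Subgroup.subgroupOfEquivOfLe (RT).B_le_G).toEquiv, card_B' hK2]
    norm_num
  have h2 : Nat.card ↥(RT).G = 35942400 := by rw [← T2_eq_G]; exact card_T2
  have h := Subgroup.card_mul_index (Bs hK2)
  rw [h1, h2] at h
  have : (Bs hK2).index = 8775 := by omega
  rw [this]
  decide

theorem good_all (g : T2) : Good g := by
  have hg : (g : GF) ∈ (RT).G := T2_eq_G ▸ g.2
  obtain ⟨k, hk, d, hd, b, hb, b', hb', e⟩ := exists_short hK2 Bs_odd hg
  obtain ⟨u, hu, rfl⟩ := B_le_UU hb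
  obtain ⟨u', hu', rfl⟩ := B_le_UU hb'
  obtain ⟨N, hN, hgood⟩ : ∃ N : List ℕ, nd hK2 d = ((wA N : T2) : GF) ∧ ∀ v ∈ UU 0, Good (v * wA N) := by
    have hn : ∀ i : Fin 2, nd hK2 (Twisted.F4.gen i) = ((wA [16 + i.val] : T2) : GF) := fun i => by
      rw [nd_gen hK2, ← nW_letter]; rfl
    simp only [List.mem_cons, List.not_mem_nil, or_false] at hd
    rcases hd with rfl | rfl | rfl | rfl
    · exact ⟨[], by rw [nd_one, wA_nil]; rfl, fun v hv => good_cell one_ok hv⟩
    · exact ⟨[16], hn 0, fun v hv => good_cell zero_ok hv⟩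
    · exact ⟨[17], hn 1, fun v hv => good_cell two_ok hv⟩
    · refine ⟨[16, 17], ?_, fun v hv => good_cell both_ok hv⟩
      rw [← nd_mul, hn 0, hn 1, ← Subgroup.coe_mul, ← wA_append]
      rfl
  rw [hN] at e
  set k' : T2 := ⟨k, T2_eq_G ▸ hk⟩
  have e' : k'⁻¹ * g * k' = u * wA N * u' := Subtype.ext (by simpa [k'] using e)
  refine good_of_conj (u' * k'⁻¹) ?_
  convert hgood (u' * u) (mul_mem hu' hu) using 1
  calc u' * k'⁻¹ * g * (u' * k'⁻¹)⁻¹ = u' * (k'⁻¹ * g * k') * u'⁻¹ := by group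
    _ = _ := by rw [e']; group

theorem exists_tits : ∃ x : ↥(commutator ↥T2), Odd (orderOf x) ∧
    ∀ g : ↥(commutator ↥T2), g ≠ 1 → ∃ a b, g = a * x * a⁻¹ * (b * x * b⁻¹) := by
  classical
  obtain ⟨-, h3, -, hodd, hcomm, -⟩ := misc_ok
  have hodd' : chi (wT oddW) ≠ 1 := chi_ne_of_odd hodd
  have hz : ∀ c : Multiplicative (ZMod 2), c = 1 ∨ c = Multiplicative.ofAdd 1 := by decide
  have hker : commutator ↥T2 = chi.ker := by
    have hle : commutator ↥T2 ≤ chi.ker := Abelianization.commutator_subset_ker chi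
    have hsurj : Function.Surjective chi := fun c => by
      rcases hz c with rfl | rfl
      · exact ⟨1, map_one _⟩
      · exact ⟨wT oddW, ((hz _).resolve_left hodd')⟩
    have hidx : chi.ker.index = 2 := by
      rw [Subgroup.index_ker, MonoidHom.range_eq_top.2 hsurj, Subgroup.card_top]
      simp
    refine le_antisymm hle (Subgroup.relIndex_eq_one.1 ?_)
    have h := Subgroup.relIndex_mul_index hle
    rw [hidx, index_commutator] at h
    omega
  have hxchi : chi x3 = 1 := by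
    rw [x3, show ([0, 1] : List ℕ) = ([0, 1] : List (Fin 4)).map Fin.val from rfl, wA_gen, chi_wT]
    decide
  have hxe : wT oddW * x3 = x3 * wT oddW := by
    have h := wA_eq hcomm
    rw [wA_append, wA_append, wA_gen] at h
    exact h
  refine ⟨⟨x3, hker ▸ hxchi⟩, ?_, fun g hg => ?_⟩
  · have h1 : x3 ^ 3 = 1 := by
      rw [pow_succ, pow_two, x3, ← wA_append, ← wA_append, ← wA_nil]
      exact wA_eq h3
    rw [← Subgroup.orderOf_coe]
    exact Odd.of_dvd_nat (by decide) (orderOf_dvd_of_pow_eq_one h1)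
  · rcases good_all g.1 with h | h | ⟨a, b, e⟩
    · exact absurd (hker ▸ g.2 : g.1 ∈ chi.ker) h
    · exact absurd (Subtype.ext h) hg
    · have fix : ∀ a : T2, ∃ a' : ↥(commutator ↥T2), (a' : T2) * x3 * (a' : T2)⁻¹ = a * x3 * a⁻¹ := by
        intro a
        by_cases ha : chi a = 1
        · exact ⟨⟨a, hker ▸ ha⟩, rfl⟩
        · refine ⟨⟨a * wT oddW, hker ▸ ?_⟩, ?_⟩
          · show chi (a * wT oddW) = 1
            rw [map_mul, (hz _).resolve_left ha, (hz _).resolve_left hodd']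
            decide
          · calc a * wT oddW * x3 * (a * wT oddW)⁻¹ = a * (wT oddW * x3 * (wT oddW)⁻¹) * a⁻¹ := by group
              _ = _ := by rw [hxe, mul_inv_cancel_right]
      obtain ⟨a', ha⟩ := fix a
      obtain ⟨b', hb⟩ := fix b
      exact ⟨a', b', Subtype.ext (by simp only [Subgroup.coe_mul, Subgroup.coe_inv]; rw [ha, hb]; exact e)⟩

end Cfsg.Agent.ReeLargeThompson.TitsCert
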